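import Cfsg.Agent.Lib.KnownA.Co0J2.Scan
import Cfsg.Agent.Lib.KnownA.Chunks

/-!
Kernel evaluation of the scans.
-/

set_option autoImplicit false
set_option maxRecDepth 100000
set_option maxHeartbeats 0
set_option Elab.async false

namespace KnownA.Co0J2

theorem scan1_0 : scan 1 cand2 ((repLits.drop (0 * 45)).take 45) = true := by
  decide +kernel

theorem scan1_1 : scan 1 cand2 ((repLits.drop (1 * 45)).take 45) = true := by
  decide +kernel

theorem scan1_2 : scan 1 cand2 ((repLits.drop (2 * 45)).take 45) = true := by
  decide +kernel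

theorem scan1_3 : scan 1 cand2 ((repLits.drop (3 * 45)).take 45) = true := by
  decide +kernel

theorem scan1_4 : scan 1 cand2 ((repLits.drop (4 * 45)).take 45) = true := by
  decide +kernel

theorem scan1_5 : scan 1 cand2 ((repLits.drop (5 * 45)).take 45) = true := by
  decide +kernel

theorem scan1_6 : scan 1 cand2 ((repLits.drop (6 * 45)).take 45) = true := by
  decide +kernel

theorem scan1_all : scan 1 cand2 repLits = true := by
  refine CfsgLib.KnownA.Chunks.all_of_chunks 45 7 (by decide +kernel) fun i hi => ?_
  match i, hi with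
  | 0, _ => exact scan1_0
  | 1, _ => exact scan1_1
  | 2, _ => exact scan1_2
  | 3, _ => exact scan1_3
  | 4, _ => exact scan1_4
  | 5, _ => exact scan1_5
  | 6, _ => exact scan1_6
  | _ + 7, h => omega

end KnownA.Co0J2
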