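import Cfsg.Agent.Lib.KnownA.Co0J2.Embed
import Cfsg.Agent.Lib.KnownA.Co0J2.ScanA
import Cfsg.Agent.Lib.KnownA.Co0J2.ScanB
import Cfsg.Agent.Lib.KnownA.Co0J2.ScanC
import Cfsg.Agent.Lib.KnownA.Co0J2.ScanD
import Cfsg.Agent.Lib.Golay.Co0Order

/-!
The centralizer of the scalar of order five has order at most 6048000.
-/

set_option autoImplicit false
set_option maxRecDepth 100000

namespace KnownA.Co0J2

open CfsgLib.Janko2 Cfsg Cfsg.Spor CfsgLib.Fusion.TableSylow MulAction
open CfsgLib.Golay (co0_ext co0_dot)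

/-- The centralizer of the scalar. -/
noncomputable abbrev CA : Subgroup Co0 := Subgroup.centralizer ({aElt} : Set Co0)

/-- The action on codes. -/
noncomputable def act (g : Co0) (x : icoLeech) : icoLeech := toLeech.symm (g • toLeech x)

theorem act_dot (g : Co0) (x y : icoLeech) :
    dotc (code (act g x)) (code (act g y)) = dotc (code x) (code y) := by
  have h := co0_dot g (toLeech x) (toLeech y)
  have h1 := toLeech_dot (act g x) (act g y)
  rw [act, act, Equiv.apply_symm_apply, Equiv.apply_symm_apply, h, toLeech_dot] at h1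
  change dotc (code (toLeech.symm _)) (code (toLeech.symm _)) = _
  omega

theorem act_zeta {g : Co0} (hg : g ∈ CA) (x : icoLeech) : act g (zetaPerm x) = zetaPerm (act g x) := by
  refine toLeech.injective ?_
  rw [← aElt_smul (act g x), act, act, Equiv.apply_symm_apply, Equiv.apply_symm_apply, ← aElt_smul,
    ← mul_smul, ← mul_smul, Subgroup.mem_centralizer_singleton_iff.1 hg]

/-- A root. -/
def IsRoot (x : icoLeech) : Prop := qip (x : Fin 3 → Quaternion ℝ) x = 4

/-- The norm of a code. -/
def nrm (v : Vec) : Zt := (v.x.norm4.add v.y.norm4).add v.z.norm4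

theorem ip_self_r {v : Vec} (hv : v.isIco = true) : (nrm v) = (v.ip v).r.add (v.ip v).r := by
  have h := (Vec.ip_spec hv hv).1
  rw [qip_self_dec] at h
  have h' := congrArg QuaternionAlgebra.re h
  rw [Quad.re_dec, Quaternion.re_coe] at h'
  refine Zt.val_injective ?_
  rw [Zt.val_add]
  unfold nrm
  linarith

theorem dotc_self (v : Vec) : dotc v v = (nrm v).a := by
  simp only [dotc, dq, term_eq, nrm, Quad.norm4, Zt.sq, Zt.mul, Zt.add]
  ring

theorem dotc_zeta {v : Vec} (hv : v.isIco = true) : 2 * dotc (v.smul zetaQ) v = (nrm v).b - (nrm v).a := by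
  obtain ⟨e, hi⟩ := Vec.smul_spec check_zeta.1 hv
  have h1 := (Vec.ip_spec hi hv).1
  rw [e, qip_smul_left, ← (Vec.ip_spec hv hv).1] at h1
  have h2 := congrArg QuaternionAlgebra.re h1
  obtain ⟨hs, hr⟩ := Vec.ip_spec hv hv
  rw [hs, qip_self_dec, Quaternion.mul_coe_eq_smul, Quaternion.re_smul, Quad.re_dec, Quad.re_dec,
    smul_eq_mul] at h2
  have h3 : (((v.smul zetaQ).ip v).r.add ((v.smul zetaQ).ip v).r).add
      (((v.smul zetaQ).ip v).r.add ((v.smul zetaQ).ip v).r) = zetaQ.r.mul (nrm v) := by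
    refine Zt.val_injective ?_
    rw [Zt.val_add, Zt.val_add, Zt.val_mul]
    unfold nrm
    linarith
  have h4 := congrArg Zt.a h3
  simp only [Zt.add, Zt.mul] at h4
  rw [dotc_ip hi hv]
  simp only [zetaQ, qd] at h4 ⊢
  omega

theorem act_nrm {g : Co0} (hg : g ∈ CA) (x : icoLeech) : nrm (code (act g x)) = nrm (code x) := by
  have ha := act_dot g x x
  have hb := act_dot g (zetaPerm x) x
  rw [act_zeta hg, code_zetaPerm, code_zetaPerm] at hb
  have h1 := dotc_zeta (inLat_isIco (code_spec (act g x)).1)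
  have h2 := dotc_zeta (inLat_isIco (code_spec x).1)
  rw [dotc_self, dotc_self] at ha
  generalize nrm (code (act g x)) = m at ha h1 ⊢
  generalize nrm (code x) = n at ha h2 ⊢
  cases m
  cases n
  simp only [Zt.mk.injEq] at *
  omega

theorem act_root {g : Co0} (hg : g ∈ CA) {x : icoLeech} (hx : IsRoot x) : IsRoot (act g x) := by
  unfold IsRoot at *
  rw [← (code_spec (act g x)).2, qip_self_dec]
  rw [← (code_spec x).2, qip_self_dec] at hx
  have := act_nrm hg x
  unfold nrm at this
  rw [this, hx]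

theorem repLits_eq : repLits = (List.range 315).map repV := by decide +kernel

theorem root_mem {x : icoLeech} (hx : IsRoot x) :
    ∃ r ∈ repLits, ∃ u ∈ unitTab, r.smul u = code x ∧ u.isIco = true := by
  obtain ⟨k, hk, u, hu, e⟩ := minimal_listed x.2 hx
  have hlen : unitTab.length = 120 := by
    have h := check_units
    simp only [Bool.and_eq_true, beq_iff_eq] at h
    exact h.1.1
  refine ⟨repV k, ?_, uQ u, ?_, ?_, (uQ_spec hu).1⟩
  · rw [repLits_eq]; exact List.mem_map.2 ⟨k, List.mem_range.2 hk, rfl⟩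
  · rw [uQ, List.getD_eq_getElem _ _ (hlen ▸ hu)]
    exact List.getElem_mem _
  · exact (code_eq_of_dec (e.trans
      (Vec.smul_spec (uQ_spec hu).1 (inLat_isIco (repV_lat hk).1)).1.symm)).symm

theorem matchV_of : ∀ (v : Vec) (ts : List Vec) (cs : List ℤ), ts.map (dotc v) = cs →
    matchV v ts cs = true := by
  intro v ts
  induction ts with
  | nil => intro cs _; rfl
  | cons t ts ih =>
    rintro (_ | ⟨c, cs⟩) h
    · rfl
    · simp only [List.map_cons, List.cons.injEq] at h
      simp only [matchV, h.1, decide_true, cond_true, ih cs h.2]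

theorem matchX_of : ∀ (v : Vec) (ts : List Vec) (n : ℕ) (cs : List ℤ),
    (∀ t ∈ ts.take n, t.y = Quad.zero ∧ t.z = Quad.zero) → ts.map (dotc v) = cs →
    matchX v.x (ts.take n) cs = true := by
  intro v ts
  induction ts with
  | nil => intro n cs _ _; simp [matchX]
  | cons t ts ih =>
    rintro (_ | n) (_ | ⟨c, cs⟩) hz h
    · simp [matchX]
    · simp [matchX]
    · simp [matchX]
    · simp only [List.map_cons, List.cons.injEq] at h
      rw [List.take_succ_cons] at hz ⊢
      obtain ⟨hy, hz'⟩ := hz t (List.mem_cons_self)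
      have e : dq v.x t.x = c := by
        rw [← h.1, dotc, hy, hz']
        simp [dq, term_eq, Quad.zero]
      simp only [matchX, e, decide_true, cond_true,
        ih n cs (fun s hs => hz s (List.mem_cons_of_mem _ hs)) h.2]

theorem check_orbits : (orbits.take 10).all (fun t => decide (t.y = Quad.zero ∧ t.z = Quad.zero)) = true ∧
    orbits.length = 30 ∧ frame.length = 6 ∧
    (List.range 30).all (fun t => decide (orbits.getD t (frame.getD 0 ⟨Quad.zero, Quad.zero, Quad.zero⟩) =
      (Vec.smul zetaQ)^[t % 5] (frame.getD (t / 5) ⟨Quad.zero, Quad.zero, Quad.zero⟩))) = true ∧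
    (List.range 6).all (fun l => decide ((frame.getD l ⟨Quad.zero, Quad.zero, Quad.zero⟩).inLat = true) &&
      decide (nrm (frame.getD l ⟨Quad.zero, Quad.zero, Quad.zero⟩) = ⟨16, 0⟩)) = true := by
  decide +kernel

theorem check_vals : (List.range 5).all (fun j => decide (vals.getD j [] = (orbits.take (5 * min (j + 1) 3)).map
    (dotc (frame.getD (j + 1) ⟨Quad.zero, Quad.zero, Quad.zero⟩)))) = true := by
  decide +kernel

/-- A frame vector. -/
def fr (l : ℕ) : Vec := frame.getD l ⟨Quad.zero, Quad.zero, Quad.zero⟩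

theorem fr_spec {l : ℕ} (hl : l < 6) : (fr l).inLat = true ∧ nrm (fr l) = ⟨16, 0⟩ := by
  have h := all_of check_orbits.2.2.2.2 hl
  simp only [Bool.and_eq_true, decide_eq_true_eq] at h
  exact h

/-- A frame vector in the lattice. -/
noncomputable def frL (l : Fin 6) : icoLeech := decL (fr l) (fr_spec l.2).1

theorem frL_root (l : Fin 6) : IsRoot (frL l) := by
  unfold IsRoot
  rw [frL, decL, qip_self_dec]
  have h := (fr_spec l.2).2
  unfold nrm at h
  rw [h, show (4 : Quaternion ℝ) = ((4 : ℝ) : Quaternion ℝ) from rfl]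
  congr 1
  simp [Zt.val]
  norm_num

theorem act_smul_pow {g : Co0} (hg : g ∈ CA) (x : icoLeech) (n : ℕ) :
    code (act g (zetaPerm^[n] x)) = (Vec.smul zetaQ)^[n] (code (act g x)) := by
  induction n with
  | zero => rfl
  | succ n ih => rw [Function.iterate_succ_apply', act_zeta hg, code_zetaPerm, ih,
      Function.iterate_succ_apply']

theorem code_pow (x : icoLeech) (n : ℕ) :
    code (zetaPerm^[n] x) = (Vec.smul zetaQ)^[n] (code x) := by
  induction n with
  | zero => rfl
  | succ n ih => rw [Function.iterate_succ_apply', code_zetaPerm, ih, Function.iterate_succ_apply']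

/-- Fixing the first frame vectors preserves the products with their multiples. -/
theorem act_products {g : Co0} (hg : g ∈ CA) {m : ℕ} (hm : m ≤ 6)
    (hfix : ∀ l : Fin 6, (l : ℕ) < m → act g (frL l) = frL l) (x : icoLeech) :
    (orbits.take (5 * m)).map (dotc (code (act g x))) = (orbits.take (5 * m)).map (dotc (code x)) := by
  refine List.map_congr_left fun t ht => ?_
  obtain ⟨i, hi, rfl⟩ := List.mem_iff_getElem.1 ht
  simp only [List.length_take, check_orbits.2.1] at hi
  have hl : i / 5 < 6 := by omega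
  have e := all_of check_orbits.2.2.2.1 (show i < 30 by omega)
  simp only [decide_eq_true_eq] at e
  rw [List.getD_eq_getElem _ _ (by rw [check_orbits.2.1]; omega)] at e
  rw [List.getElem_take, e, show frame.getD (i / 5) ⟨Quad.zero, Quad.zero, Quad.zero⟩ =
    code (frL ⟨i / 5, hl⟩) from (code_decL _ _).symm]
  conv_lhs => rw [← hfix ⟨i / 5, hl⟩ (show i / 5 < m by omega), ← act_smul_pow hg]
  rw [act_dot, code_pow]

/-- The image of a frame vector is a candidate. -/
theorem act_cand {g : Co0} (hg : g ∈ CA) {j : ℕ} (hj : j < 5) {L : List Vec}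
    (hs : scan j L repLits = true) (hfix : ∀ l : Fin 6, (l : ℕ) < min (j + 1) 3 → act g (frL l) = frL l) :
    code (act g (frL ⟨j + 1, by omega⟩)) ∈ L := by
  have hroot := act_root hg (frL_root ⟨j + 1, by omega⟩)
  obtain ⟨r, hr, u, hu, e, -⟩ := root_mem hroot
  have hv : (orbits.take (5 * min (j + 1) 3)).map (dotc (r.smul u)) = vals.getD j [] := by
    have h := all_of check_vals hj
    simp only [decide_eq_true_eq] at h
    rw [h, e, act_products hg (by omega) hfix, frL, code_decL]
    rfl
  simp only [scan, List.all_eq_true] at hs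
  have h := hs r hr u hu
  have hx : matchX (u.mul r.x) ((orbits.take (5 * min (j + 1) 3)).take 10) (vals.getD j []) = true :=
    matchX_of (r.smul u) _ 10 _ (fun t ht => by
      have hh := check_orbits.1
      simp only [List.all_eq_true, decide_eq_true_eq] at hh
      refine hh t ?_
      rw [List.take_take] at ht
      exact List.mem_of_mem_take (show t ∈ ((orbits.take 10).take (min 10 (5 * min (j + 1) 3))) by
        rwa [List.take_take, min_eq_left (min_le_left _ _)])) hv
  simp only [hit, hx, matchV_of _ _ _ hv, cond_true, List.any_eq_true, decide_eq_true_eq] at h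
  obtain ⟨c, hc, ec⟩ := h
  rw [← e, ec]
  exact hc

/-- Combinations. -/
def lin : List ℤ → List ℤ → ℤ
  | c :: cs, d :: ds => c * d + lin cs ds
  | _, _ => 0

/-- Combinations of triples. -/
def combV : List ℤ → List Vec → Vec
  | c :: cs, t :: ts => vadd ⟨t.x.smul c, t.y.smul c, t.z.smul c⟩ (combV cs ts)
  | _, _ => ⟨Quad.zero, Quad.zero, Quad.zero⟩

theorem dotc_combV (v : Vec) : ∀ (cs : List ℤ) (ts : List Vec),
    dotc v (combV cs ts) = lin cs (ts.map (dotc v)) := by
  intro cs
  induction cs with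
  | nil => intro ts; simp [combV, lin, dotc, dq, term_eq, Quad.zero]
  | cons c cs ih =>
    rintro (_ | ⟨t, ts⟩)
    · simp [combV, lin, dotc, dq, term_eq, Quad.zero]
    · rw [List.map_cons, lin, ← ih, combV]
      simp only [dotc, dq, term_eq, vadd, Quad.smul, Quad.add, Zt.add]
      ring

/-- The coordinate vectors, scaled. -/
def unitV (c : ℕ) : Vec :=
  let d := fun n => bif Nat.beq n c then invDen else 0
  ⟨qd (d 0) (d 1) (d 2) (d 3) (d 4) (d 5) (d 6) (d 7),
    qd (d 8) (d 9) (d 10) (d 11) (d 12) (d 13) (d 14) (d 15),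
    qd (d 16) (d 17) (d 18) (d 19) (d 20) (d 21) (d 22) (d 23)⟩

theorem check_inverse : (List.range 24).all (fun c => decide (combV (invCoef.getD c []) orbits = unitV c)) = true := by
  decide +kernel

theorem eq_of_products {v w : Vec} (h : orbits.map (dotc v) = orbits.map (dotc w)) : v = w := by
  have key : ∀ c < 24, dotc v (unitV c) = dotc w (unitV c) := by
    intro c hc
    have e := all_of check_inverse hc
    simp only [decide_eq_true_eq] at e
    rw [← e, dotc_combV, dotc_combV, h]
  obtain ⟨⟨⟨a1, b1⟩, ⟨a2, b2⟩, ⟨a3, b3⟩, ⟨a4, b4⟩⟩, ⟨⟨c1, d1⟩, ⟨c2, d2⟩, ⟨c3, d3⟩, ⟨c4, d4⟩⟩,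
    ⟨⟨e1, f1⟩, ⟨e2, f2⟩, ⟨e3, f3⟩, ⟨e4, f4⟩⟩⟩ := v
  obtain ⟨⟨⟨A1, B1⟩, ⟨A2, B2⟩, ⟨A3, B3⟩, ⟨A4, B4⟩⟩, ⟨⟨C1, D1⟩, ⟨C2, D2⟩, ⟨C3, D3⟩, ⟨C4, D4⟩⟩,
    ⟨⟨E1, F1⟩, ⟨E2, F2⟩, ⟨E3, F3⟩, ⟨E4, F4⟩⟩⟩ := w
  have k := fun c (hc : c < 24) => key c hc
  simp only [Vec.mk.injEq, Quad.mk.injEq, Zt.mk.injEq]
  have k0 := k 0 (by norm_num); have k1 := k 1 (by norm_num); have k2 := k 2 (by norm_num)
  have k3 := k 3 (by norm_num); have k4 := k 4 (by norm_num); have k5 := k 5 (by norm_num)
  have k6 := k 6 (by norm_num); have k7 := k 7 (by norm_num); have k8 := k 8 (by norm_num)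
  have k9 := k 9 (by norm_num); have k10 := k 10 (by norm_num); have k11 := k 11 (by norm_num)
  have k12 := k 12 (by norm_num); have k13 := k 13 (by norm_num); have k14 := k 14 (by norm_num)
  have k15 := k 15 (by norm_num); have k16 := k 16 (by norm_num); have k17 := k 17 (by norm_num)
  have k18 := k 18 (by norm_num); have k19 := k 19 (by norm_num); have k20 := k 20 (by norm_num)
  have k21 := k 21 (by norm_num); have k22 := k 22 (by norm_num); have k23 := k 23 (by norm_num)
  simp [dotc, dq, term_eq, unitV, qd, invDen, Nat.beq] at k0 k1 k2 k3 k4 k5 k6 k7 k8 k9 k10 k11 k12 k13 k14 k15 k16 k17 k18 k19 k20 k21 k22 k23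
  omega

/-- A centralizing element fixing the first three frame vectors is trivial. -/
theorem eq_one_of_fix {g : Co0} (hg : g ∈ CA)
    (h : ∀ l : Fin 6, (l : ℕ) < 3 → act g (frL l) = frL l) : g = 1 := by
  have hsingle : ∀ j, ∀ hj : j < 5, ∀ L : List Vec, scan j L repLits = true → L = [fr (j + 1)] →
      2 ≤ j → act g (frL ⟨j + 1, by omega⟩) = frL ⟨j + 1, by omega⟩ := by
    intro j hj L hs hL h2
    have hm := act_cand hg hj hs fun l hl => h l (by omega)
    rw [hL, List.mem_singleton] at hm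
    exact code_injective (hm.trans (code_decL _ (fr_spec (show j + 1 < 6 by omega)).1).symm)
  have hc : cand3 = [fr 3] ∧ cand4 = [fr 4] ∧ cand5 = [fr 5] := by decide +kernel
  have hall : ∀ l : Fin 6, act g (frL l) = frL l := by
    intro l
    rcases (show (l : ℕ) < 3 ∨ (l : ℕ) = 3 ∨ (l : ℕ) = 4 ∨ (l : ℕ) = 5 by omega) with e | e | e | e
    · exact h l e
    · rw [show l = ⟨2 + 1, by norm_num⟩ from Fin.ext e]
      exact hsingle 2 (by norm_num) _ scan2_all hc.1 le_rfl
    · rw [show l = ⟨3 + 1, by norm_num⟩ from Fin.ext e]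
      exact hsingle 3 (by norm_num) _ scan3_all hc.2.1 (by norm_num)
    · rw [show l = ⟨4 + 1, by norm_num⟩ from Fin.ext e]
      exact hsingle 4 (by norm_num) _ scan4_all hc.2.2 (by norm_num)
  refine co0_ext fun v => ?_
  obtain ⟨x, rfl⟩ := toLeech.surjective v
  have hp := act_products hg le_rfl (fun l _ => hall l) x
  rw [show 5 * 6 = 30 from rfl, List.take_of_length_le check_orbits.2.1.le] at hp
  have e := code_injective (eq_of_products hp)
  rw [one_smul]
  conv_rhs => rw [← e]
  rw [act, Equiv.apply_symm_apply]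

/-- Counting by orbits. -/
theorem card_le_orbit {G X : Type*} [Group G] [Finite G] [MulAction G X] (H : Subgroup G) (x : X)
    (s : Finset X) (hs : ∀ h ∈ H, h • x ∈ s) :
    Nat.card H ≤ s.card * Nat.card (H ⊓ stabilizer G x : Subgroup G) := by
  have h1 : Nat.card (stabilizer H x) = Nat.card (H ⊓ stabilizer G x : Subgroup G) :=
    Nat.card_congr
      { toFun := fun a => ⟨((a : H) : G), (a : H).2, a.2⟩
        invFun := fun b => ⟨⟨b.1, b.2.1⟩, b.2.2⟩
        left_inv := fun _ => rfl
        right_inv := fun _ => rfl }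
  rw [← (stabilizer H x).card_mul_index, index_stabilizer, h1, mul_comm]
  refine Nat.mul_le_mul_right _ ?_
  rw [← Set.ncard_coe_finset]
  refine Set.ncard_le_ncard ?_ s.finite_toSet
  rintro _ ⟨h, rfl⟩
  exact hs h.1 h.2

/-- The root set in the Leech lattice. -/
noncomputable def rootImg (p : Fin 315 × Fin 120) : leechLattice :=
  toLeech ⟨fun t => (uQ p.2).dec * (repV p.1).dec t, CfsgLib.Janko2.icoLeech_smul
    (Quad.mem_icosians (uQ_spec p.2.2).1) (Vec.mem_icoLeech_iff.2 (repV_lat p.1.2).1)⟩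

theorem act_eq_of_smul {g : Co0} {x : icoLeech} (h : g • toLeech x = toLeech x) : act g x = x := by
  rw [act, h, Equiv.symm_apply_apply]

theorem card_CA : Nat.card CA ≤ 6048000 := by
  classical
  let p : Fin 6 → leechLattice := fun l => toLeech (frL l)
  have key : ∀ (j : ℕ) (hj : j < 5) (L : List Vec), scan j L repLits = true → L.length ≤ 32 →
      ∀ g ∈ CA, (∀ l : Fin 6, (l : ℕ) < min (j + 1) 3 → g • p l = p l) →
      g • p ⟨j + 1, by omega⟩ ∈ L.toFinset.image (fun v => if h : v.inLat = true then toLeech (decL v h) else 0) := by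
    intro j hj L hs _ g hg hfix
    have hm := act_cand hg hj hs fun l hl => act_eq_of_smul (hfix l hl)
    refine Finset.mem_image.2 ⟨_, List.mem_toFinset.2 hm, ?_⟩
    rw [dif_pos (code_spec _).1,
      show decL _ (code_spec (act g (frL ⟨j + 1, by omega⟩))).1 = act g (frL ⟨j + 1, by omega⟩) from
        code_injective (code_decL _ _)]
    exact Equiv.apply_symm_apply _ _
  have h0 := card_le_orbit CA (p 0) (Finset.univ.image rootImg) fun g hg => by
    obtain ⟨k, hk, u, hu, e⟩ := minimal_listed (act g (frL 0)).2 (act_root hg (frL_root 0))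
    refine Finset.mem_image.2 ⟨(⟨k, hk⟩, ⟨u, hu⟩), Finset.mem_univ _, ?_⟩
    rw [rootImg, show (⟨fun t => (uQ u).dec * (repV k).dec t, _⟩ : icoLeech) = act g (frL 0) from
      Subtype.ext e.symm]
    exact Equiv.apply_symm_apply _ _
  have h1 := card_le_orbit (CA ⊓ stabilizer Co0 (p 0)) (p 1) _ fun g hg =>
    key 0 (by norm_num) cand1 scan0_all (by decide) g hg.1 fun l hl => by
      rw [show l = 0 from Fin.ext (by simp at hl ⊢; omega)]; exact hg.2
  have h2 := card_le_orbit (CA ⊓ stabilizer Co0 (p 0) ⊓ stabilizer Co0 (p 1)) (p 2) _ fun g hg =>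
    key 1 (by norm_num) cand2 scan1_all (by decide) g hg.1.1 fun l hl => by
      rcases (show (l : ℕ) = 0 ∨ (l : ℕ) = 1 by omega) with e | e
      · rw [show l = 0 from Fin.ext e]; exact hg.1.2
      · rw [show l = 1 from Fin.ext e]; exact hg.2
  have h3 : Nat.card (CA ⊓ stabilizer Co0 (p 0) ⊓ stabilizer Co0 (p 1) ⊓ stabilizer Co0 (p 2) :
      Subgroup Co0) = 1 := by
    rw [Subgroup.card_eq_one, eq_bot_iff]
    intro g hg
    refine Subgroup.mem_bot.2 (eq_one_of_fix hg.1.1.1 fun l hl => act_eq_of_smul ?_)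
    rcases (show (l : ℕ) = 0 ∨ (l : ℕ) = 1 ∨ (l : ℕ) = 2 by omega) with e | e | e
    · rw [show l = 0 from Fin.ext e]; exact hg.1.1.2
    · rw [show l = 1 from Fin.ext e]; exact hg.1.2
    · rw [show l = 2 from Fin.ext e]; exact hg.2
  have c0 : (Finset.univ.image rootImg).card ≤ 37800 := Finset.card_image_le.trans (by simp)
  have c1 : ∀ (L : List Vec) (n : ℕ), L.length ≤ n → ∀ F : Vec → leechLattice,
      (L.toFinset.image F).card ≤ n :=
    fun L n h F => Finset.card_image_le.trans ((List.toFinset_card_le L).trans h)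
  refine h0.trans ((Nat.mul_le_mul c0 (h1.trans (Nat.mul_le_mul (c1 cand1 5 (by decide) _)
    (h2.trans (Nat.mul_le_mul (c1 cand2 32 (by decide) _) h3.le))))).trans (by norm_num))

end KnownA.Co0J2
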