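import Cfsg.Agent.Lib.Janko2.ChecksVec

/-!
Data: the isometry of the icosian lattice with the Leech lattice, and frames for the
centraliser of the unit of order five. Found by a computer search; everything is checked.
-/

set_option autoImplicit false
set_option maxRecDepth 100000

namespace KnownA.Co0J2

open CfsgLib.Janko2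

/-- The isometry. -/
def phiList (v : Vec) : List ℤ := [
  v.x.r.a + v.x.i.a,
  -v.x.r.a + v.x.i.a,
  -v.x.r.b - v.x.j.b,
  v.x.r.b - v.x.j.b,
  v.x.i.b + v.x.k.b,
  -v.y.r.a - v.y.i.a,
  v.y.i.b + v.y.k.b,
  v.x.i.b - v.x.k.b,
  v.z.i.b + v.z.k.b,
  -v.z.j.a - v.z.k.a,
  v.x.j.a - v.x.k.a,
  -v.y.r.b - v.y.j.b,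
  -v.x.j.a - v.x.k.a,
  -v.z.j.a + v.z.k.a,
  -v.z.i.b + v.z.k.b,
  -v.z.r.b - v.z.j.b,
  -v.y.r.a + v.y.i.a,
  -v.z.r.b + v.z.j.b,
  -v.z.r.a - v.z.i.a,
  -v.y.j.a - v.y.k.a,
  -v.y.i.b + v.y.k.b,
  -v.y.r.b + v.y.j.b,
  -v.z.r.a + v.z.i.a,
  -v.y.j.a + v.y.k.a
]

/-- The inverse of the isometry. -/
def psiV (f : ℕ → ℤ) : Vec :=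
  ⟨⟨⟨(f 0 - f 1) / 2, (-f 2 + f 3) / 2⟩, ⟨(f 0 + f 1) / 2, (f 4 + f 7) / 2⟩, ⟨(f 10 - f 12) / 2, (-f 2 - f 3) / 2⟩, ⟨(-f 10 - f 12) / 2, (f 4 - f 7) / 2⟩⟩,
   ⟨⟨(-f 5 - f 16) / 2, (-f 11 - f 21) / 2⟩, ⟨(-f 5 + f 16) / 2, (f 6 - f 20) / 2⟩, ⟨(-f 19 - f 23) / 2, (-f 11 + f 21) / 2⟩, ⟨(-f 19 + f 23) / 2, (f 6 + f 20) / 2⟩⟩,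
   ⟨⟨(-f 18 - f 22) / 2, (-f 15 - f 17) / 2⟩, ⟨(-f 18 + f 22) / 2, (f 8 - f 14) / 2⟩, ⟨(-f 9 - f 13) / 2, (-f 15 + f 17) / 2⟩, ⟨(-f 9 + f 13) / 2, (f 8 + f 14) / 2⟩⟩⟩

/-- The unit of order five. -/
def zetaQ : Quad := qd (-1) 1 1 0 0 (-1) 0 0

/-- The frame vectors. -/
def frame : List Vec := [
  ⟨qd (-4) 0 0 0 0 0 0 0, qd 0 0 0 0 0 0 0 0, qd 0 0 0 0 0 0 0 0⟩,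
  ⟨qd 0 0 (-4) 0 0 0 0 0, qd 0 0 0 0 0 0 0 0, qd 0 0 0 0 0 0 0 0⟩,
  ⟨qd (-2) 1 (-1) 0 0 0 (-1) 1, qd (-1) 0 0 (-1) (-1) (-1) 0 0, qd 0 (-1) (-1) 0 0 0 1 (-1)⟩,
  ⟨qd 0 (-1) (-2) 1 0 (-1) 0 (-1), qd 0 (-1) (-2) 1 0 (-1) 0 (-1), qd 0 0 0 0 0 0 0 0⟩,
  ⟨qd 2 (-1) 0 (-1) 0 (-1) 0 1, qd 2 (-1) 0 (-1) 0 (-1) 0 1, qd 0 0 0 0 0 0 0 0⟩,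
  ⟨qd (-2) 0 (-2) 0 0 0 0 0, qd 0 0 0 0 0 0 0 0, qd (-2) 0 (-2) 0 0 0 0 0⟩
]

/-- The vectors with given products. -/
def cand1 : List Vec := [
  ⟨qd 0 0 (-4) 0 0 0 0 0, qd 0 0 0 0 0 0 0 0, qd 0 0 0 0 0 0 0 0⟩,
  ⟨qd 0 0 (-2) 2 0 2 2 0, qd 0 0 0 0 0 0 0 0, qd 0 0 0 0 0 0 0 0⟩,
  ⟨qd 0 0 (-2) 2 0 2 (-2) 0, qd 0 0 0 0 0 0 0 0, qd 0 0 0 0 0 0 0 0⟩,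
  ⟨qd 0 0 (-2) 0 (-2) 2 0 (-2), qd 0 0 0 0 0 0 0 0, qd 0 0 0 0 0 0 0 0⟩,
  ⟨qd 0 0 (-2) 0 (-2) 2 0 2, qd 0 0 0 0 0 0 0 0, qd 0 0 0 0 0 0 0 0⟩
]

/-- The vectors with given products. -/
def cand2 : List Vec := [
  ⟨qd (-2) 1 (-1) 0 0 0 (-1) 1, qd (-1) 0 0 (-1) (-1) (-1) 0 0, qd 0 (-1) (-1) 0 0 0 1 (-1)⟩,
  ⟨qd (-2) 1 (-1) 0 0 0 (-1) 1, qd (-1) 0 0 (-1) (-1) (-1) 0 0, qd 0 1 1 0 0 0 (-1) 1⟩,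
  ⟨qd (-2) 1 (-1) 0 0 0 (-1) 1, qd 0 (-1) 1 0 0 0 (-1) (-1), qd (-1) 0 0 1 (-1) 1 0 0⟩,
  ⟨qd (-2) 1 (-1) 0 0 0 (-1) 1, qd 0 (-1) 1 0 0 0 (-1) (-1), qd 1 0 0 (-1) 1 (-1) 0 0⟩,
  ⟨qd (-2) 1 (-1) 0 0 0 (-1) 1, qd 0 1 (-1) 0 0 0 1 1, qd (-1) 0 0 1 (-1) 1 0 0⟩,
  ⟨qd (-2) 1 (-1) 0 0 0 (-1) 1, qd 0 1 (-1) 0 0 0 1 1, qd 1 0 0 (-1) 1 (-1) 0 0⟩,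
  ⟨qd (-2) 1 (-1) 0 0 0 (-1) 1, qd 1 0 0 1 1 1 0 0, qd 0 (-1) (-1) 0 0 0 1 (-1)⟩,
  ⟨qd (-2) 1 (-1) 0 0 0 (-1) 1, qd 1 0 0 1 1 1 0 0, qd 0 1 1 0 0 0 (-1) 1⟩,
  ⟨qd (-2) 1 (-1) 0 0 0 (-1) 1, qd 0 0 (-1) (-1) 0 1 (-1) 0, qd 1 (-1) 0 0 (-1) 0 0 1⟩,
  ⟨qd (-2) 1 (-1) 0 0 0 (-1) 1, qd 0 0 (-1) (-1) 0 1 (-1) 0, qd (-1) 1 0 0 1 0 0 (-1)⟩,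
  ⟨qd (-2) 1 (-1) 0 0 0 (-1) 1, qd 1 1 0 0 (-1) 0 0 (-1), qd 0 0 (-1) 1 0 (-1) (-1) 0⟩,
  ⟨qd (-2) 1 (-1) 0 0 0 (-1) 1, qd 1 1 0 0 (-1) 0 0 (-1), qd 0 0 1 (-1) 0 1 1 0⟩,
  ⟨qd (-2) 1 (-1) 0 0 0 (-1) 1, qd (-1) (-1) 0 0 1 0 0 1, qd 0 0 (-1) 1 0 (-1) (-1) 0⟩,
  ⟨qd (-2) 1 (-1) 0 0 0 (-1) 1, qd (-1) (-1) 0 0 1 0 0 1, qd 0 0 1 (-1) 0 1 1 0⟩,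
  ⟨qd (-2) 1 (-1) 0 0 0 (-1) 1, qd 0 0 1 1 0 (-1) 1 0, qd 1 (-1) 0 0 (-1) 0 0 1⟩,
  ⟨qd (-2) 1 (-1) 0 0 0 (-1) 1, qd 0 0 1 1 0 (-1) 1 0, qd (-1) 1 0 0 1 0 0 (-1)⟩,
  ⟨qd (-2) 1 (-1) 0 0 0 (-1) 1, qd 0 0 (-1) 1 0 (-1) (-1) 0, qd 1 1 0 0 (-1) 0 0 (-1)⟩,
  ⟨qd (-2) 1 (-1) 0 0 0 (-1) 1, qd 0 0 (-1) 1 0 (-1) (-1) 0, qd (-1) (-1) 0 0 1 0 0 1⟩,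
  ⟨qd (-2) 1 (-1) 0 0 0 (-1) 1, qd 1 (-1) 0 0 (-1) 0 0 1, qd 0 0 (-1) (-1) 0 1 (-1) 0⟩,
  ⟨qd (-2) 1 (-1) 0 0 0 (-1) 1, qd 1 (-1) 0 0 (-1) 0 0 1, qd 0 0 1 1 0 (-1) 1 0⟩,
  ⟨qd (-2) 1 (-1) 0 0 0 (-1) 1, qd (-1) 1 0 0 1 0 0 (-1), qd 0 0 (-1) (-1) 0 1 (-1) 0⟩,
  ⟨qd (-2) 1 (-1) 0 0 0 (-1) 1, qd (-1) 1 0 0 1 0 0 (-1), qd 0 0 1 1 0 (-1) 1 0⟩,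
  ⟨qd (-2) 1 (-1) 0 0 0 (-1) 1, qd 0 0 1 (-1) 0 1 1 0, qd 1 1 0 0 (-1) 0 0 (-1)⟩,
  ⟨qd (-2) 1 (-1) 0 0 0 (-1) 1, qd 0 0 1 (-1) 0 1 1 0, qd (-1) (-1) 0 0 1 0 0 1⟩,
  ⟨qd (-2) 1 (-1) 0 0 0 (-1) 1, qd (-1) 0 0 1 (-1) 1 0 0, qd 0 (-1) 1 0 0 0 (-1) (-1)⟩,
  ⟨qd (-2) 1 (-1) 0 0 0 (-1) 1, qd (-1) 0 0 1 (-1) 1 0 0, qd 0 1 (-1) 0 0 0 1 1⟩,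
  ⟨qd (-2) 1 (-1) 0 0 0 (-1) 1, qd 0 (-1) (-1) 0 0 0 1 (-1), qd (-1) 0 0 (-1) (-1) (-1) 0 0⟩,
  ⟨qd (-2) 1 (-1) 0 0 0 (-1) 1, qd 0 (-1) (-1) 0 0 0 1 (-1), qd 1 0 0 1 1 1 0 0⟩,
  ⟨qd (-2) 1 (-1) 0 0 0 (-1) 1, qd 0 1 1 0 0 0 (-1) 1, qd (-1) 0 0 (-1) (-1) (-1) 0 0⟩,
  ⟨qd (-2) 1 (-1) 0 0 0 (-1) 1, qd 0 1 1 0 0 0 (-1) 1, qd 1 0 0 1 1 1 0 0⟩,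
  ⟨qd (-2) 1 (-1) 0 0 0 (-1) 1, qd 1 0 0 (-1) 1 (-1) 0 0, qd 0 (-1) 1 0 0 0 (-1) (-1)⟩,
  ⟨qd (-2) 1 (-1) 0 0 0 (-1) 1, qd 1 0 0 (-1) 1 (-1) 0 0, qd 0 1 (-1) 0 0 0 1 1⟩
]

/-- The vectors with given products. -/
def cand3 : List Vec := [
  ⟨qd 0 (-1) (-2) 1 0 (-1) 0 (-1), qd 0 (-1) (-2) 1 0 (-1) 0 (-1), qd 0 0 0 0 0 0 0 0⟩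
]

/-- The vectors with given products. -/
def cand4 : List Vec := [
  ⟨qd 2 (-1) 0 (-1) 0 (-1) 0 1, qd 2 (-1) 0 (-1) 0 (-1) 0 1, qd 0 0 0 0 0 0 0 0⟩
]

/-- The vectors with given products. -/
def cand5 : List Vec := [
  ⟨qd (-2) 0 (-2) 0 0 0 0 0, qd 0 0 0 0 0 0 0 0, qd (-2) 0 (-2) 0 0 0 0 0⟩
]

/-- The unit multiples of the frame vectors. -/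
def orbits : List Vec := [
  ⟨qd (-4) 0 0 0 0 0 0 0, qd 0 0 0 0 0 0 0 0, qd 0 0 0 0 0 0 0 0⟩,
  ⟨qd 2 (-2) (-2) 0 0 2 0 0, qd 0 0 0 0 0 0 0 0, qd 0 0 0 0 0 0 0 0⟩,
  ⟨qd 0 2 2 (-2) 2 0 0 0, qd 0 0 0 0 0 0 0 0, qd 0 0 0 0 0 0 0 0⟩,
  ⟨qd 0 2 (-2) 2 (-2) 0 0 0, qd 0 0 0 0 0 0 0 0, qd 0 0 0 0 0 0 0 0⟩,
  ⟨qd 2 (-2) 2 0 0 (-2) 0 0, qd 0 0 0 0 0 0 0 0, qd 0 0 0 0 0 0 0 0⟩,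
  ⟨qd 0 0 (-4) 0 0 0 0 0, qd 0 0 0 0 0 0 0 0, qd 0 0 0 0 0 0 0 0⟩,
  ⟨qd 2 0 2 (-2) 0 0 0 (-2), qd 0 0 0 0 0 0 0 0, qd 0 0 0 0 0 0 0 0⟩,
  ⟨qd (-2) 2 0 2 0 0 (-2) 0, qd 0 0 0 0 0 0 0 0, qd 0 0 0 0 0 0 0 0⟩,
  ⟨qd 2 (-2) 0 2 0 0 2 0, qd 0 0 0 0 0 0 0 0, qd 0 0 0 0 0 0 0 0⟩,
  ⟨qd (-2) 0 2 (-2) 0 0 0 2, qd 0 0 0 0 0 0 0 0, qd 0 0 0 0 0 0 0 0⟩,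
  ⟨qd (-2) 1 (-1) 0 0 0 (-1) 1, qd (-1) 0 0 (-1) (-1) (-1) 0 0, qd 0 (-1) (-1) 0 0 0 1 (-1)⟩,
  ⟨qd 2 (-1) (-1) 0 0 0 1 (-1), qd 0 (-1) (-1) 0 0 0 (-1) (-1), qd 0 0 1 (-1) 0 1 (-1) 0⟩,
  ⟨qd (-1) 1 2 (-1) 0 0 (-1) 0, qd 0 0 1 0 1 1 0 (-1), qd 0 1 (-1) 1 1 0 0 0⟩,
  ⟨qd 0 0 (-2) 2 0 0 0 0, qd 0 1 0 1 0 1 0 1, qd 1 0 1 0 (-1) 0 1 0⟩,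
  ⟨qd 1 (-1) 2 (-1) 0 0 1 0, qd 1 0 0 0 0 (-1) 1 1, qd (-1) 0 0 0 0 (-1) (-1) 1⟩,
  ⟨qd 0 (-1) (-2) 1 0 (-1) 0 (-1), qd 0 (-1) (-2) 1 0 (-1) 0 (-1), qd 0 0 0 0 0 0 0 0⟩,
  ⟨qd 0 (-1) 2 (-1) 0 1 0 (-1), qd 0 (-1) 2 (-1) 0 1 0 (-1), qd 0 0 0 0 0 0 0 0⟩,
  ⟨qd (-1) 1 (-1) 1 1 1 (-1) 1, qd (-1) 1 (-1) 1 1 1 (-1) 1, qd 0 0 0 0 0 0 0 0⟩,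
  ⟨qd 2 0 0 0 0 0 2 0, qd 2 0 0 0 0 0 2 0, qd 0 0 0 0 0 0 0 0⟩,
  ⟨qd (-1) 1 1 (-1) (-1) (-1) (-1) 1, qd (-1) 1 1 (-1) (-1) (-1) (-1) 1, qd 0 0 0 0 0 0 0 0⟩,
  ⟨qd 2 (-1) 0 (-1) 0 (-1) 0 1, qd 2 (-1) 0 (-1) 0 (-1) 0 1, qd 0 0 0 0 0 0 0 0⟩,
  ⟨qd (-2) 1 0 (-1) 0 (-1) 0 (-1), qd (-2) 1 0 (-1) 0 (-1) 0 (-1), qd 0 0 0 0 0 0 0 0⟩,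
  ⟨qd 1 (-1) (-1) 1 (-1) 1 (-1) (-1), qd 1 (-1) (-1) 1 (-1) 1 (-1) (-1), qd 0 0 0 0 0 0 0 0⟩,
  ⟨qd 0 0 2 0 2 0 0 0, qd 0 0 2 0 2 0 0 0, qd 0 0 0 0 0 0 0 0⟩,
  ⟨qd (-1) 1 (-1) 1 (-1) 1 1 1, qd (-1) 1 (-1) 1 (-1) 1 1 1, qd 0 0 0 0 0 0 0 0⟩,
  ⟨qd (-2) 0 (-2) 0 0 0 0 0, qd 0 0 0 0 0 0 0 0, qd (-2) 0 (-2) 0 0 0 0 0⟩,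
  ⟨qd 2 (-1) 0 (-1) 0 1 0 (-1), qd 0 0 0 0 0 0 0 0, qd 2 (-1) 0 (-1) 0 1 0 (-1)⟩,
  ⟨qd (-1) 2 1 0 1 0 (-1) 0, qd 0 0 0 0 0 0 0 0, qd (-1) 2 1 0 1 0 (-1) 0⟩,
  ⟨qd 1 0 (-1) 2 (-1) 0 1 0, qd 0 0 0 0 0 0 0 0, qd 1 0 (-1) 2 (-1) 0 1 0⟩,
  ⟨qd 0 (-1) 2 (-1) 0 (-1) 0 1, qd 0 0 0 0 0 0 0 0, qd 0 (-1) 2 (-1) 0 (-1) 0 1⟩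
]

/-- The listed vectors as literals. -/
def repLits : List Vec := [
  ⟨qd (-4) 0 0 0 0 0 0 0, qd 0 0 0 0 0 0 0 0, qd 0 0 0 0 0 0 0 0⟩,
  ⟨qd (-2) 0 (-2) 0 0 0 0 0, qd (-2) 0 (-2) 0 0 0 0 0, qd 0 0 0 0 0 0 0 0⟩,
  ⟨qd (-2) 0 (-2) 0 0 0 0 0, qd (-2) 0 2 0 0 0 0 0, qd 0 0 0 0 0 0 0 0⟩,
  ⟨qd (-2) 0 (-2) 0 0 0 0 0, qd 2 0 (-2) 0 0 0 0 0, qd 0 0 0 0 0 0 0 0⟩,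
  ⟨qd (-2) 0 (-2) 0 0 0 0 0, qd 2 0 2 0 0 0 0 0, qd 0 0 0 0 0 0 0 0⟩,
  ⟨qd (-2) 0 (-2) 0 0 0 0 0, qd 0 0 0 0 (-2) 0 (-2) 0, qd 0 0 0 0 0 0 0 0⟩,
  ⟨qd (-2) 0 (-2) 0 0 0 0 0, qd 0 0 0 0 (-2) 0 2 0, qd 0 0 0 0 0 0 0 0⟩,
  ⟨qd (-2) 0 (-2) 0 0 0 0 0, qd 0 0 0 0 2 0 (-2) 0, qd 0 0 0 0 0 0 0 0⟩,
  ⟨qd (-2) 0 (-2) 0 0 0 0 0, qd 0 0 0 0 2 0 2 0, qd 0 0 0 0 0 0 0 0⟩,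
  ⟨qd (-2) 0 (-2) 0 0 0 0 0, qd 0 0 0 0 0 0 0 0, qd (-2) 0 (-2) 0 0 0 0 0⟩,
  ⟨qd (-2) 0 (-2) 0 0 0 0 0, qd 0 0 0 0 0 0 0 0, qd (-2) 0 2 0 0 0 0 0⟩,
  ⟨qd (-2) 0 (-2) 0 0 0 0 0, qd 0 0 0 0 0 0 0 0, qd 2 0 (-2) 0 0 0 0 0⟩,
  ⟨qd (-2) 0 (-2) 0 0 0 0 0, qd 0 0 0 0 0 0 0 0, qd 2 0 2 0 0 0 0 0⟩,
  ⟨qd (-2) 0 (-2) 0 0 0 0 0, qd 0 0 0 0 0 0 0 0, qd 0 0 0 0 (-2) 0 (-2) 0⟩,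
  ⟨qd (-2) 0 (-2) 0 0 0 0 0, qd 0 0 0 0 0 0 0 0, qd 0 0 0 0 (-2) 0 2 0⟩,
  ⟨qd (-2) 0 (-2) 0 0 0 0 0, qd 0 0 0 0 0 0 0 0, qd 0 0 0 0 2 0 (-2) 0⟩,
  ⟨qd (-2) 0 (-2) 0 0 0 0 0, qd 0 0 0 0 0 0 0 0, qd 0 0 0 0 2 0 2 0⟩,
  ⟨qd 0 0 0 0 0 0 0 0, qd (-4) 0 0 0 0 0 0 0, qd 0 0 0 0 0 0 0 0⟩,
  ⟨qd 0 0 0 0 0 0 0 0, qd (-2) 0 (-2) 0 0 0 0 0, qd (-2) 0 (-2) 0 0 0 0 0⟩,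
  ⟨qd 0 0 0 0 0 0 0 0, qd (-2) 0 (-2) 0 0 0 0 0, qd (-2) 0 2 0 0 0 0 0⟩,
  ⟨qd 0 0 0 0 0 0 0 0, qd (-2) 0 (-2) 0 0 0 0 0, qd 2 0 (-2) 0 0 0 0 0⟩,
  ⟨qd 0 0 0 0 0 0 0 0, qd (-2) 0 (-2) 0 0 0 0 0, qd 2 0 2 0 0 0 0 0⟩,
  ⟨qd 0 0 0 0 0 0 0 0, qd (-2) 0 (-2) 0 0 0 0 0, qd 0 0 0 0 (-2) 0 (-2) 0⟩,
  ⟨qd 0 0 0 0 0 0 0 0, qd (-2) 0 (-2) 0 0 0 0 0, qd 0 0 0 0 (-2) 0 2 0⟩,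
  ⟨qd 0 0 0 0 0 0 0 0, qd (-2) 0 (-2) 0 0 0 0 0, qd 0 0 0 0 2 0 (-2) 0⟩,
  ⟨qd 0 0 0 0 0 0 0 0, qd (-2) 0 (-2) 0 0 0 0 0, qd 0 0 0 0 2 0 2 0⟩,
  ⟨qd 0 0 0 0 0 0 0 0, qd 0 0 0 0 0 0 0 0, qd (-4) 0 0 0 0 0 0 0⟩,
  ⟨qd (-2) 0 (-1) 0 1 (-1) 0 (-1), qd (-1) 0 0 0 0 (-1) (-1) 1, qd 0 (-1) (-1) 1 1 0 0 0⟩,
  ⟨qd (-2) 0 (-1) 0 1 (-1) 0 (-1), qd (-1) 0 0 0 0 (-1) (-1) 1, qd 0 1 1 (-1) (-1) 0 0 0⟩,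
  ⟨qd (-2) 0 (-1) 0 1 (-1) 0 (-1), qd 0 0 (-1) 0 (-1) 1 0 1, qd (-1) 1 0 1 0 0 1 0⟩,
  ⟨qd (-2) 0 (-1) 0 1 (-1) 0 (-1), qd 0 0 (-1) 0 (-1) 1 0 1, qd 1 (-1) 0 (-1) 0 0 (-1) 0⟩,
  ⟨qd (-2) 0 (-1) 0 1 (-1) 0 (-1), qd 0 0 1 0 1 (-1) 0 (-1), qd (-1) 1 0 1 0 0 1 0⟩,
  ⟨qd (-2) 0 (-1) 0 1 (-1) 0 (-1), qd 0 0 1 0 1 (-1) 0 (-1), qd 1 (-1) 0 (-1) 0 0 (-1) 0⟩,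
  ⟨qd (-2) 0 (-1) 0 1 (-1) 0 (-1), qd 1 0 0 0 0 1 1 (-1), qd 0 (-1) (-1) 1 1 0 0 0⟩,
  ⟨qd (-2) 0 (-1) 0 1 (-1) 0 (-1), qd 1 0 0 0 0 1 1 (-1), qd 0 1 1 (-1) (-1) 0 0 0⟩,
  ⟨qd (-2) 0 (-1) 0 1 (-1) 0 (-1), qd (-1) 1 0 1 0 0 1 0, qd 0 0 (-1) 0 (-1) 1 0 1⟩,
  ⟨qd (-2) 0 (-1) 0 1 (-1) 0 (-1), qd (-1) 1 0 1 0 0 1 0, qd 0 0 1 0 1 (-1) 0 (-1)⟩,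
  ⟨qd (-2) 0 (-1) 0 1 (-1) 0 (-1), qd 0 (-1) (-1) 1 1 0 0 0, qd (-1) 0 0 0 0 (-1) (-1) 1⟩,
  ⟨qd (-2) 0 (-1) 0 1 (-1) 0 (-1), qd 0 (-1) (-1) 1 1 0 0 0, qd 1 0 0 0 0 1 1 (-1)⟩,
  ⟨qd (-2) 0 (-1) 0 1 (-1) 0 (-1), qd 0 1 1 (-1) (-1) 0 0 0, qd (-1) 0 0 0 0 (-1) (-1) 1⟩,
  ⟨qd (-2) 0 (-1) 0 1 (-1) 0 (-1), qd 0 1 1 (-1) (-1) 0 0 0, qd 1 0 0 0 0 1 1 (-1)⟩,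
  ⟨qd (-2) 0 (-1) 0 1 (-1) 0 (-1), qd 1 (-1) 0 (-1) 0 0 (-1) 0, qd 0 0 (-1) 0 (-1) 1 0 1⟩,
  ⟨qd (-2) 0 (-1) 0 1 (-1) 0 (-1), qd 1 (-1) 0 (-1) 0 0 (-1) 0, qd 0 0 1 0 1 (-1) 0 (-1)⟩,
  ⟨qd (-2) 0 (-1) 0 (-1) 1 0 1, qd 1 0 0 0 0 (-1) (-1) 1, qd (-1) 1 0 1 0 0 (-1) 0⟩,
  ⟨qd (-2) 0 (-1) 0 (-1) 1 0 1, qd 1 0 0 0 0 (-1) (-1) 1, qd 1 (-1) 0 (-1) 0 0 1 0⟩,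
  ⟨qd (-2) 0 (-1) 0 (-1) 1 0 1, qd 0 0 1 0 (-1) 1 0 1, qd 0 (-1) (-1) 1 (-1) 0 0 0⟩,
  ⟨qd (-2) 0 (-1) 0 (-1) 1 0 1, qd 0 0 1 0 (-1) 1 0 1, qd 0 1 1 (-1) 1 0 0 0⟩,
  ⟨qd (-2) 0 (-1) 0 (-1) 1 0 1, qd 0 0 (-1) 0 1 (-1) 0 (-1), qd 0 (-1) (-1) 1 (-1) 0 0 0⟩,
  ⟨qd (-2) 0 (-1) 0 (-1) 1 0 1, qd 0 0 (-1) 0 1 (-1) 0 (-1), qd 0 1 1 (-1) 1 0 0 0⟩,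
  ⟨qd (-2) 0 (-1) 0 (-1) 1 0 1, qd (-1) 0 0 0 0 1 1 (-1), qd (-1) 1 0 1 0 0 (-1) 0⟩,
  ⟨qd (-2) 0 (-1) 0 (-1) 1 0 1, qd (-1) 0 0 0 0 1 1 (-1), qd 1 (-1) 0 (-1) 0 0 1 0⟩,
  ⟨qd (-2) 0 (-1) 0 (-1) 1 0 1, qd (-1) 1 0 1 0 0 (-1) 0, qd 1 0 0 0 0 (-1) (-1) 1⟩,
  ⟨qd (-2) 0 (-1) 0 (-1) 1 0 1, qd (-1) 1 0 1 0 0 (-1) 0, qd (-1) 0 0 0 0 1 1 (-1)⟩,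
  ⟨qd (-2) 0 (-1) 0 (-1) 1 0 1, qd 0 (-1) (-1) 1 (-1) 0 0 0, qd 0 0 1 0 (-1) 1 0 1⟩,
  ⟨qd (-2) 0 (-1) 0 (-1) 1 0 1, qd 0 (-1) (-1) 1 (-1) 0 0 0, qd 0 0 (-1) 0 1 (-1) 0 (-1)⟩,
  ⟨qd (-2) 0 (-1) 0 (-1) 1 0 1, qd 0 1 1 (-1) 1 0 0 0, qd 0 0 1 0 (-1) 1 0 1⟩,
  ⟨qd (-2) 0 (-1) 0 (-1) 1 0 1, qd 0 1 1 (-1) 1 0 0 0, qd 0 0 (-1) 0 1 (-1) 0 (-1)⟩,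
  ⟨qd (-2) 0 (-1) 0 (-1) 1 0 1, qd 1 (-1) 0 (-1) 0 0 1 0, qd 1 0 0 0 0 (-1) (-1) 1⟩,
  ⟨qd (-2) 0 (-1) 0 (-1) 1 0 1, qd 1 (-1) 0 (-1) 0 0 1 0, qd (-1) 0 0 0 0 1 1 (-1)⟩,
  ⟨qd (-2) 0 (-1) 0 1 (-1) 0 1, qd 0 0 1 0 1 (-1) 0 1, qd (-1) 0 0 0 0 1 (-1) 1⟩,
  ⟨qd (-2) 0 (-1) 0 1 (-1) 0 1, qd 0 0 1 0 1 (-1) 0 1, qd 1 0 0 0 0 (-1) 1 (-1)⟩,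
  ⟨qd (-2) 0 (-1) 0 1 (-1) 0 1, qd (-1) 0 0 0 0 1 (-1) 1, qd 0 0 1 0 1 (-1) 0 1⟩,
  ⟨qd (-2) 0 (-1) 0 1 (-1) 0 1, qd (-1) 0 0 0 0 1 (-1) 1, qd 0 0 (-1) 0 (-1) 1 0 (-1)⟩,
  ⟨qd (-2) 0 (-1) 0 1 (-1) 0 1, qd 1 0 0 0 0 (-1) 1 (-1), qd 0 0 1 0 1 (-1) 0 1⟩,
  ⟨qd (-2) 0 (-1) 0 1 (-1) 0 1, qd 1 0 0 0 0 (-1) 1 (-1), qd 0 0 (-1) 0 (-1) 1 0 (-1)⟩,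
  ⟨qd (-2) 0 (-1) 0 1 (-1) 0 1, qd 0 0 (-1) 0 (-1) 1 0 (-1), qd (-1) 0 0 0 0 1 (-1) 1⟩,
  ⟨qd (-2) 0 (-1) 0 1 (-1) 0 1, qd 0 0 (-1) 0 (-1) 1 0 (-1), qd 1 0 0 0 0 (-1) 1 (-1)⟩,
  ⟨qd (-2) 0 (-1) 0 1 (-1) 0 1, qd 0 1 (-1) 1 1 0 0 0, qd 1 (-1) 0 1 0 0 (-1) 0⟩,
  ⟨qd (-2) 0 (-1) 0 1 (-1) 0 1, qd 0 1 (-1) 1 1 0 0 0, qd (-1) 1 0 (-1) 0 0 1 0⟩,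
  ⟨qd (-2) 0 (-1) 0 1 (-1) 0 1, qd 1 (-1) 0 1 0 0 (-1) 0, qd 0 1 (-1) 1 1 0 0 0⟩,
  ⟨qd (-2) 0 (-1) 0 1 (-1) 0 1, qd 1 (-1) 0 1 0 0 (-1) 0, qd 0 (-1) 1 (-1) (-1) 0 0 0⟩,
  ⟨qd (-2) 0 (-1) 0 1 (-1) 0 1, qd (-1) 1 0 (-1) 0 0 1 0, qd 0 1 (-1) 1 1 0 0 0⟩,
  ⟨qd (-2) 0 (-1) 0 1 (-1) 0 1, qd (-1) 1 0 (-1) 0 0 1 0, qd 0 (-1) 1 (-1) (-1) 0 0 0⟩,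
  ⟨qd (-2) 0 (-1) 0 1 (-1) 0 1, qd 0 (-1) 1 (-1) (-1) 0 0 0, qd 1 (-1) 0 1 0 0 (-1) 0⟩,
  ⟨qd (-2) 0 (-1) 0 1 (-1) 0 1, qd 0 (-1) 1 (-1) (-1) 0 0 0, qd (-1) 1 0 (-1) 0 0 1 0⟩,
  ⟨qd (-2) 0 (-1) 0 (-1) 1 0 (-1), qd (-1) 0 0 0 0 (-1) 1 (-1), qd (-1) 0 0 0 0 (-1) 1 (-1)⟩,
  ⟨qd (-2) 0 (-1) 0 (-1) 1 0 (-1), qd (-1) 0 0 0 0 (-1) 1 (-1), qd 1 0 0 0 0 1 (-1) 1⟩,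
  ⟨qd (-2) 0 (-1) 0 (-1) 1 0 (-1), qd 0 0 (-1) 0 1 (-1) 0 1, qd 0 0 (-1) 0 1 (-1) 0 1⟩,
  ⟨qd (-2) 0 (-1) 0 (-1) 1 0 (-1), qd 0 0 (-1) 0 1 (-1) 0 1, qd 0 0 1 0 (-1) 1 0 (-1)⟩,
  ⟨qd (-2) 0 (-1) 0 (-1) 1 0 (-1), qd 0 0 1 0 (-1) 1 0 (-1), qd 0 0 (-1) 0 1 (-1) 0 1⟩,
  ⟨qd (-2) 0 (-1) 0 (-1) 1 0 (-1), qd 0 0 1 0 (-1) 1 0 (-1), qd 0 0 1 0 (-1) 1 0 (-1)⟩,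
  ⟨qd (-2) 0 (-1) 0 (-1) 1 0 (-1), qd 1 0 0 0 0 1 (-1) 1, qd (-1) 0 0 0 0 (-1) 1 (-1)⟩,
  ⟨qd (-2) 0 (-1) 0 (-1) 1 0 (-1), qd 1 0 0 0 0 1 (-1) 1, qd 1 0 0 0 0 1 (-1) 1⟩,
  ⟨qd (-2) 0 (-1) 0 (-1) 1 0 (-1), qd 1 (-1) 0 1 0 0 1 0, qd 1 (-1) 0 1 0 0 1 0⟩,
  ⟨qd (-2) 0 (-1) 0 (-1) 1 0 (-1), qd 1 (-1) 0 1 0 0 1 0, qd (-1) 1 0 (-1) 0 0 (-1) 0⟩,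
  ⟨qd (-2) 0 (-1) 0 (-1) 1 0 (-1), qd 0 (-1) 1 (-1) 1 0 0 0, qd 0 (-1) 1 (-1) 1 0 0 0⟩,
  ⟨qd (-2) 0 (-1) 0 (-1) 1 0 (-1), qd 0 (-1) 1 (-1) 1 0 0 0, qd 0 1 (-1) 1 (-1) 0 0 0⟩,
  ⟨qd (-2) 0 (-1) 0 (-1) 1 0 (-1), qd 0 1 (-1) 1 (-1) 0 0 0, qd 0 (-1) 1 (-1) 1 0 0 0⟩,
  ⟨qd (-2) 0 (-1) 0 (-1) 1 0 (-1), qd 0 1 (-1) 1 (-1) 0 0 0, qd 0 1 (-1) 1 (-1) 0 0 0⟩,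
  ⟨qd (-2) 0 (-1) 0 (-1) 1 0 (-1), qd (-1) 1 0 (-1) 0 0 (-1) 0, qd 1 (-1) 0 1 0 0 1 0⟩,
  ⟨qd (-2) 0 (-1) 0 (-1) 1 0 (-1), qd (-1) 1 0 (-1) 0 0 (-1) 0, qd (-1) 1 0 (-1) 0 0 (-1) 0⟩,
  ⟨qd (-2) 1 (-1) 0 0 0 (-1) 1, qd (-1) 0 0 (-1) (-1) (-1) 0 0, qd 0 (-1) (-1) 0 0 0 1 (-1)⟩,
  ⟨qd (-2) 1 (-1) 0 0 0 (-1) 1, qd (-1) 0 0 (-1) (-1) (-1) 0 0, qd 0 1 1 0 0 0 (-1) 1⟩,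
  ⟨qd (-2) 1 (-1) 0 0 0 (-1) 1, qd 0 (-1) 1 0 0 0 (-1) (-1), qd (-1) 0 0 1 (-1) 1 0 0⟩,
  ⟨qd (-2) 1 (-1) 0 0 0 (-1) 1, qd 0 (-1) 1 0 0 0 (-1) (-1), qd 1 0 0 (-1) 1 (-1) 0 0⟩,
  ⟨qd (-2) 1 (-1) 0 0 0 (-1) 1, qd 0 1 (-1) 0 0 0 1 1, qd (-1) 0 0 1 (-1) 1 0 0⟩,
  ⟨qd (-2) 1 (-1) 0 0 0 (-1) 1, qd 0 1 (-1) 0 0 0 1 1, qd 1 0 0 (-1) 1 (-1) 0 0⟩,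
  ⟨qd (-2) 1 (-1) 0 0 0 (-1) 1, qd 1 0 0 1 1 1 0 0, qd 0 (-1) (-1) 0 0 0 1 (-1)⟩,
  ⟨qd (-2) 1 (-1) 0 0 0 (-1) 1, qd 1 0 0 1 1 1 0 0, qd 0 1 1 0 0 0 (-1) 1⟩,
  ⟨qd (-2) 1 (-1) 0 0 0 (-1) 1, qd 0 0 (-1) (-1) 0 1 (-1) 0, qd 1 (-1) 0 0 (-1) 0 0 1⟩,
  ⟨qd (-2) 1 (-1) 0 0 0 (-1) 1, qd 0 0 (-1) (-1) 0 1 (-1) 0, qd (-1) 1 0 0 1 0 0 (-1)⟩,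
  ⟨qd (-2) 1 (-1) 0 0 0 (-1) 1, qd 1 1 0 0 (-1) 0 0 (-1), qd 0 0 (-1) 1 0 (-1) (-1) 0⟩,
  ⟨qd (-2) 1 (-1) 0 0 0 (-1) 1, qd 1 1 0 0 (-1) 0 0 (-1), qd 0 0 1 (-1) 0 1 1 0⟩,
  ⟨qd (-2) 1 (-1) 0 0 0 (-1) 1, qd (-1) (-1) 0 0 1 0 0 1, qd 0 0 (-1) 1 0 (-1) (-1) 0⟩,
  ⟨qd (-2) 1 (-1) 0 0 0 (-1) 1, qd (-1) (-1) 0 0 1 0 0 1, qd 0 0 1 (-1) 0 1 1 0⟩,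
  ⟨qd (-2) 1 (-1) 0 0 0 (-1) 1, qd 0 0 1 1 0 (-1) 1 0, qd 1 (-1) 0 0 (-1) 0 0 1⟩,
  ⟨qd (-2) 1 (-1) 0 0 0 (-1) 1, qd 0 0 1 1 0 (-1) 1 0, qd (-1) 1 0 0 1 0 0 (-1)⟩,
  ⟨qd (-2) 1 (-1) 0 0 0 (-1) 1, qd 0 0 (-1) 1 0 (-1) (-1) 0, qd 1 1 0 0 (-1) 0 0 (-1)⟩,
  ⟨qd (-2) 1 (-1) 0 0 0 (-1) 1, qd 0 0 (-1) 1 0 (-1) (-1) 0, qd (-1) (-1) 0 0 1 0 0 1⟩,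
  ⟨qd (-2) 1 (-1) 0 0 0 (-1) 1, qd 1 (-1) 0 0 (-1) 0 0 1, qd 0 0 (-1) (-1) 0 1 (-1) 0⟩,
  ⟨qd (-2) 1 (-1) 0 0 0 (-1) 1, qd 1 (-1) 0 0 (-1) 0 0 1, qd 0 0 1 1 0 (-1) 1 0⟩,
  ⟨qd (-2) 1 (-1) 0 0 0 (-1) 1, qd (-1) 1 0 0 1 0 0 (-1), qd 0 0 (-1) (-1) 0 1 (-1) 0⟩,
  ⟨qd (-2) 1 (-1) 0 0 0 (-1) 1, qd (-1) 1 0 0 1 0 0 (-1), qd 0 0 1 1 0 (-1) 1 0⟩,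
  ⟨qd (-2) 1 (-1) 0 0 0 (-1) 1, qd 0 0 1 (-1) 0 1 1 0, qd 1 1 0 0 (-1) 0 0 (-1)⟩,
  ⟨qd (-2) 1 (-1) 0 0 0 (-1) 1, qd 0 0 1 (-1) 0 1 1 0, qd (-1) (-1) 0 0 1 0 0 1⟩,
  ⟨qd (-2) 1 (-1) 0 0 0 (-1) 1, qd (-1) 0 0 1 (-1) 1 0 0, qd 0 (-1) 1 0 0 0 (-1) (-1)⟩,
  ⟨qd (-2) 1 (-1) 0 0 0 (-1) 1, qd (-1) 0 0 1 (-1) 1 0 0, qd 0 1 (-1) 0 0 0 1 1⟩,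
  ⟨qd (-2) 1 (-1) 0 0 0 (-1) 1, qd 0 (-1) (-1) 0 0 0 1 (-1), qd (-1) 0 0 (-1) (-1) (-1) 0 0⟩,
  ⟨qd (-2) 1 (-1) 0 0 0 (-1) 1, qd 0 (-1) (-1) 0 0 0 1 (-1), qd 1 0 0 1 1 1 0 0⟩,
  ⟨qd (-2) 1 (-1) 0 0 0 (-1) 1, qd 0 1 1 0 0 0 (-1) 1, qd (-1) 0 0 (-1) (-1) (-1) 0 0⟩,
  ⟨qd (-2) 1 (-1) 0 0 0 (-1) 1, qd 0 1 1 0 0 0 (-1) 1, qd 1 0 0 1 1 1 0 0⟩,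
  ⟨qd (-2) 1 (-1) 0 0 0 (-1) 1, qd 1 0 0 (-1) 1 (-1) 0 0, qd 0 (-1) 1 0 0 0 (-1) (-1)⟩,
  ⟨qd (-2) 1 (-1) 0 0 0 (-1) 1, qd 1 0 0 (-1) 1 (-1) 0 0, qd 0 1 (-1) 0 0 0 1 1⟩,
  ⟨qd (-1) (-1) (-1) 0 0 (-1) 0 0, qd 1 (-1) (-1) 0 2 (-1) 0 0, qd 0 (-1) 0 0 (-1) 1 (-1) 0⟩,
  ⟨qd (-1) (-1) (-1) 0 0 (-1) 0 0, qd 1 (-1) (-1) 0 2 (-1) 0 0, qd 0 1 0 0 1 (-1) 1 0⟩,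
  ⟨qd (-1) (-1) (-1) 0 0 (-1) 0 0, qd 1 0 1 (-1) 0 0 (-2) 1, qd 0 0 0 1 1 0 (-1) 1⟩,
  ⟨qd (-1) (-1) (-1) 0 0 (-1) 0 0, qd 1 0 1 (-1) 0 0 (-2) 1, qd 0 0 0 (-1) (-1) 0 1 (-1)⟩,
  ⟨qd (-1) (-1) (-1) 0 0 (-1) 0 0, qd (-1) 0 (-1) 1 0 0 2 (-1), qd 0 0 0 1 1 0 (-1) 1⟩,
  ⟨qd (-1) (-1) (-1) 0 0 (-1) 0 0, qd (-1) 0 (-1) 1 0 0 2 (-1), qd 0 0 0 (-1) (-1) 0 1 (-1)⟩,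
  ⟨qd (-1) (-1) (-1) 0 0 (-1) 0 0, qd (-1) 1 1 0 (-2) 1 0 0, qd 0 (-1) 0 0 (-1) 1 (-1) 0⟩,
  ⟨qd (-1) (-1) (-1) 0 0 (-1) 0 0, qd (-1) 1 1 0 (-2) 1 0 0, qd 0 1 0 0 1 (-1) 1 0⟩,
  ⟨qd (-1) (-1) (-1) 0 0 (-1) 0 0, qd (-2) 1 0 0 1 (-1) (-1) 0, qd 1 (-1) 1 0 0 (-1) 0 0⟩,
  ⟨qd (-1) (-1) (-1) 0 0 (-1) 0 0, qd (-2) 1 0 0 1 (-1) (-1) 0, qd (-1) 1 (-1) 0 0 1 0 0⟩,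
  ⟨qd (-1) (-1) (-1) 0 0 (-1) 0 0, qd 0 0 (-2) 1 (-1) 0 (-1) 1, qd (-1) 0 1 (-1) 0 0 0 1⟩,
  ⟨qd (-1) (-1) (-1) 0 0 (-1) 0 0, qd 0 0 (-2) 1 (-1) 0 (-1) 1, qd 1 0 (-1) 1 0 0 0 (-1)⟩,
  ⟨qd (-1) (-1) (-1) 0 0 (-1) 0 0, qd 0 0 2 (-1) 1 0 1 (-1), qd (-1) 0 1 (-1) 0 0 0 1⟩,
  ⟨qd (-1) (-1) (-1) 0 0 (-1) 0 0, qd 0 0 2 (-1) 1 0 1 (-1), qd 1 0 (-1) 1 0 0 0 (-1)⟩,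
  ⟨qd (-1) (-1) (-1) 0 0 (-1) 0 0, qd 2 (-1) 0 0 (-1) 1 1 0, qd 1 (-1) 1 0 0 (-1) 0 0⟩,
  ⟨qd (-1) (-1) (-1) 0 0 (-1) 0 0, qd 2 (-1) 0 0 (-1) 1 1 0, qd (-1) 1 (-1) 0 0 1 0 0⟩,
  ⟨qd (-1) (-1) (-1) 0 0 (-1) 0 0, qd 1 (-1) 1 0 0 (-1) 0 0, qd (-2) 1 0 0 1 (-1) (-1) 0⟩,
  ⟨qd (-1) (-1) (-1) 0 0 (-1) 0 0, qd 1 (-1) 1 0 0 (-1) 0 0, qd 2 (-1) 0 0 (-1) 1 1 0⟩,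
  ⟨qd (-1) (-1) (-1) 0 0 (-1) 0 0, qd (-1) 0 1 (-1) 0 0 0 1, qd 0 0 (-2) 1 (-1) 0 (-1) 1⟩,
  ⟨qd (-1) (-1) (-1) 0 0 (-1) 0 0, qd (-1) 0 1 (-1) 0 0 0 1, qd 0 0 2 (-1) 1 0 1 (-1)⟩,
  ⟨qd (-1) (-1) (-1) 0 0 (-1) 0 0, qd 1 0 (-1) 1 0 0 0 (-1), qd 0 0 (-2) 1 (-1) 0 (-1) 1⟩,
  ⟨qd (-1) (-1) (-1) 0 0 (-1) 0 0, qd 1 0 (-1) 1 0 0 0 (-1), qd 0 0 2 (-1) 1 0 1 (-1)⟩,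
  ⟨qd (-1) (-1) (-1) 0 0 (-1) 0 0, qd (-1) 1 (-1) 0 0 1 0 0, qd (-2) 1 0 0 1 (-1) (-1) 0⟩,
  ⟨qd (-1) (-1) (-1) 0 0 (-1) 0 0, qd (-1) 1 (-1) 0 0 1 0 0, qd 2 (-1) 0 0 (-1) 1 1 0⟩,
  ⟨qd (-1) (-1) (-1) 0 0 (-1) 0 0, qd 0 0 0 1 1 0 (-1) 1, qd 1 0 1 (-1) 0 0 (-2) 1⟩,
  ⟨qd (-1) (-1) (-1) 0 0 (-1) 0 0, qd 0 0 0 1 1 0 (-1) 1, qd (-1) 0 (-1) 1 0 0 2 (-1)⟩,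
  ⟨qd (-1) (-1) (-1) 0 0 (-1) 0 0, qd 0 (-1) 0 0 (-1) 1 (-1) 0, qd 1 (-1) (-1) 0 2 (-1) 0 0⟩,
  ⟨qd (-1) (-1) (-1) 0 0 (-1) 0 0, qd 0 (-1) 0 0 (-1) 1 (-1) 0, qd (-1) 1 1 0 (-2) 1 0 0⟩,
  ⟨qd (-1) (-1) (-1) 0 0 (-1) 0 0, qd 0 1 0 0 1 (-1) 1 0, qd 1 (-1) (-1) 0 2 (-1) 0 0⟩,
  ⟨qd (-1) (-1) (-1) 0 0 (-1) 0 0, qd 0 1 0 0 1 (-1) 1 0, qd (-1) 1 1 0 (-2) 1 0 0⟩,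
  ⟨qd (-1) (-1) (-1) 0 0 (-1) 0 0, qd 0 0 0 (-1) (-1) 0 1 (-1), qd 1 0 1 (-1) 0 0 (-2) 1⟩,
  ⟨qd (-1) (-1) (-1) 0 0 (-1) 0 0, qd 0 0 0 (-1) (-1) 0 1 (-1), qd (-1) 0 (-1) 1 0 0 2 (-1)⟩,
  ⟨qd (-2) 0 0 0 0 0 0 0, qd (-1) 0 1 0 1 0 1 (-2), qd 0 0 0 0 2 0 0 0⟩,
  ⟨qd (-2) 0 0 0 0 0 0 0, qd (-1) 0 1 0 1 0 1 (-2), qd 0 0 0 0 (-2) 0 0 0⟩,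
  ⟨qd (-2) 0 0 0 0 0 0 0, qd (-1) 0 (-1) 0 (-1) 2 1 0, qd 0 0 0 0 2 0 0 0⟩,
  ⟨qd (-2) 0 0 0 0 0 0 0, qd (-1) 0 (-1) 0 (-1) 2 1 0, qd 0 0 0 0 (-2) 0 0 0⟩,
  ⟨qd (-2) 0 0 0 0 0 0 0, qd 1 0 (-1) 0 1 0 1 (-2), qd 0 0 0 0 0 0 2 0⟩,
  ⟨qd (-2) 0 0 0 0 0 0 0, qd 1 0 (-1) 0 1 0 1 (-2), qd 0 0 0 0 0 0 (-2) 0⟩,
  ⟨qd (-2) 0 0 0 0 0 0 0, qd 1 0 1 0 (-1) 2 1 0, qd 0 0 0 0 0 0 2 0⟩,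
  ⟨qd (-2) 0 0 0 0 0 0 0, qd 1 0 1 0 (-1) 2 1 0, qd 0 0 0 0 0 0 (-2) 0⟩,
  ⟨qd (-2) 0 0 0 0 0 0 0, qd (-1) 2 (-1) 0 (-1) 0 1 0, qd 0 0 0 0 0 0 2 0⟩,
  ⟨qd (-2) 0 0 0 0 0 0 0, qd (-1) 2 (-1) 0 (-1) 0 1 0, qd 0 0 0 0 0 0 (-2) 0⟩,
  ⟨qd (-2) 0 0 0 0 0 0 0, qd 1 0 (-1) 2 1 0 1 0, qd 0 0 0 0 2 0 0 0⟩,
  ⟨qd (-2) 0 0 0 0 0 0 0, qd 1 0 (-1) 2 1 0 1 0, qd 0 0 0 0 (-2) 0 0 0⟩,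
  ⟨qd (-2) 0 0 0 0 0 0 0, qd (-1) 0 1 (-2) (-1) 0 (-1) 0, qd 0 0 0 0 2 0 0 0⟩,
  ⟨qd (-2) 0 0 0 0 0 0 0, qd (-1) 0 1 (-2) (-1) 0 (-1) 0, qd 0 0 0 0 (-2) 0 0 0⟩,
  ⟨qd (-2) 0 0 0 0 0 0 0, qd 1 (-2) 1 0 1 0 (-1) 0, qd 0 0 0 0 0 0 2 0⟩,
  ⟨qd (-2) 0 0 0 0 0 0 0, qd 1 (-2) 1 0 1 0 (-1) 0, qd 0 0 0 0 0 0 (-2) 0⟩,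
  ⟨qd (-2) 0 0 0 0 0 0 0, qd (-1) 0 (-1) 0 1 (-2) (-1) 0, qd 0 0 0 0 0 0 2 0⟩,
  ⟨qd (-2) 0 0 0 0 0 0 0, qd (-1) 0 (-1) 0 1 (-2) (-1) 0, qd 0 0 0 0 0 0 (-2) 0⟩,
  ⟨qd (-2) 0 0 0 0 0 0 0, qd (-1) 0 1 0 (-1) 0 (-1) 2, qd 0 0 0 0 0 0 2 0⟩,
  ⟨qd (-2) 0 0 0 0 0 0 0, qd (-1) 0 1 0 (-1) 0 (-1) 2, qd 0 0 0 0 0 0 (-2) 0⟩,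
  ⟨qd (-2) 0 0 0 0 0 0 0, qd 1 0 1 0 1 (-2) (-1) 0, qd 0 0 0 0 2 0 0 0⟩,
  ⟨qd (-2) 0 0 0 0 0 0 0, qd 1 0 1 0 1 (-2) (-1) 0, qd 0 0 0 0 (-2) 0 0 0⟩,
  ⟨qd (-2) 0 0 0 0 0 0 0, qd 1 0 (-1) 0 (-1) 0 (-1) 2, qd 0 0 0 0 2 0 0 0⟩,
  ⟨qd (-2) 0 0 0 0 0 0 0, qd 1 0 (-1) 0 (-1) 0 (-1) 2, qd 0 0 0 0 (-2) 0 0 0⟩,
  ⟨qd (-2) 0 0 0 0 0 0 0, qd (-1) 0 (-1) 0 (-1) 0 1 (-2), qd 0 0 (-2) 0 0 0 0 0⟩,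
  ⟨qd (-2) 0 0 0 0 0 0 0, qd (-1) 0 (-1) 0 (-1) 0 1 (-2), qd 0 0 2 0 0 0 0 0⟩,
  ⟨qd (-2) 0 0 0 0 0 0 0, qd (-1) 0 1 0 (-1) 2 (-1) 0, qd (-2) 0 0 0 0 0 0 0⟩,
  ⟨qd (-2) 0 0 0 0 0 0 0, qd (-1) 0 1 0 (-1) 2 (-1) 0, qd 2 0 0 0 0 0 0 0⟩,
  ⟨qd (-2) 0 0 0 0 0 0 0, qd 1 0 (-1) 0 1 (-2) 1 0, qd (-2) 0 0 0 0 0 0 0⟩,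
  ⟨qd (-2) 0 0 0 0 0 0 0, qd 1 0 (-1) 0 1 (-2) 1 0, qd 2 0 0 0 0 0 0 0⟩,
  ⟨qd (-2) 0 0 0 0 0 0 0, qd 1 0 1 0 1 0 (-1) 2, qd 0 0 (-2) 0 0 0 0 0⟩,
  ⟨qd (-2) 0 0 0 0 0 0 0, qd 1 0 1 0 1 0 (-1) 2, qd 0 0 2 0 0 0 0 0⟩,
  ⟨qd (-2) 0 0 0 0 0 0 0, qd (-1) 1 1 (-1) (-1) 1 1 (-1), qd 0 (-1) 0 1 0 (-1) 0 (-1)⟩,
  ⟨qd (-2) 0 0 0 0 0 0 0, qd (-1) 1 1 (-1) (-1) 1 1 (-1), qd 0 1 0 (-1) 0 1 0 1⟩,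
  ⟨qd (-2) 0 0 0 0 0 0 0, qd (-1) 1 (-1) 1 1 (-1) 1 (-1), qd 0 1 0 1 0 1 0 (-1)⟩,
  ⟨qd (-2) 0 0 0 0 0 0 0, qd (-1) 1 (-1) 1 1 (-1) 1 (-1), qd 0 (-1) 0 (-1) 0 (-1) 0 1⟩,
  ⟨qd (-2) 0 0 0 0 0 0 0, qd 1 (-1) 1 (-1) (-1) 1 (-1) 1, qd 0 1 0 1 0 1 0 (-1)⟩,
  ⟨qd (-2) 0 0 0 0 0 0 0, qd 1 (-1) 1 (-1) (-1) 1 (-1) 1, qd 0 (-1) 0 (-1) 0 (-1) 0 1⟩,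
  ⟨qd (-2) 0 0 0 0 0 0 0, qd 1 (-1) (-1) 1 1 (-1) (-1) 1, qd 0 (-1) 0 1 0 (-1) 0 (-1)⟩,
  ⟨qd (-2) 0 0 0 0 0 0 0, qd 1 (-1) (-1) 1 1 (-1) (-1) 1, qd 0 1 0 (-1) 0 1 0 1⟩,
  ⟨qd (-2) 0 0 0 0 0 0 0, qd 0 (-1) 0 (-1) 0 1 0 (-1), qd 1 (-1) (-1) 1 (-1) 1 1 (-1)⟩,
  ⟨qd (-2) 0 0 0 0 0 0 0, qd 0 (-1) 0 (-1) 0 1 0 (-1), qd (-1) 1 1 (-1) 1 (-1) (-1) 1⟩,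
  ⟨qd (-2) 0 0 0 0 0 0 0, qd 0 (-1) 0 1 0 1 0 1, qd 1 (-1) 1 (-1) 1 (-1) 1 (-1)⟩,
  ⟨qd (-2) 0 0 0 0 0 0 0, qd 0 (-1) 0 1 0 1 0 1, qd (-1) 1 (-1) 1 (-1) 1 (-1) 1⟩,
  ⟨qd (-2) 0 0 0 0 0 0 0, qd 0 1 0 (-1) 0 (-1) 0 (-1), qd 1 (-1) 1 (-1) 1 (-1) 1 (-1)⟩,
  ⟨qd (-2) 0 0 0 0 0 0 0, qd 0 1 0 (-1) 0 (-1) 0 (-1), qd (-1) 1 (-1) 1 (-1) 1 (-1) 1⟩,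
  ⟨qd (-2) 0 0 0 0 0 0 0, qd 0 1 0 1 0 (-1) 0 1, qd 1 (-1) (-1) 1 (-1) 1 1 (-1)⟩,
  ⟨qd (-2) 0 0 0 0 0 0 0, qd 0 1 0 1 0 (-1) 0 1, qd (-1) 1 1 (-1) 1 (-1) (-1) 1⟩,
  ⟨qd (-2) 0 0 0 0 0 0 0, qd (-1) 0 1 (-2) 1 0 1 0, qd 0 0 0 0 0 0 2 0⟩,
  ⟨qd (-2) 0 0 0 0 0 0 0, qd (-1) 0 1 (-2) 1 0 1 0, qd 0 0 0 0 0 0 (-2) 0⟩,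
  ⟨qd (-2) 0 0 0 0 0 0 0, qd (-1) 2 (-1) 0 1 0 (-1) 0, qd 0 0 0 0 2 0 0 0⟩,
  ⟨qd (-2) 0 0 0 0 0 0 0, qd (-1) 2 (-1) 0 1 0 (-1) 0, qd 0 0 0 0 (-2) 0 0 0⟩,
  ⟨qd (-2) 0 0 0 0 0 0 0, qd 1 (-2) 1 0 (-1) 0 1 0, qd 0 0 0 0 2 0 0 0⟩,
  ⟨qd (-2) 0 0 0 0 0 0 0, qd 1 (-2) 1 0 (-1) 0 1 0, qd 0 0 0 0 (-2) 0 0 0⟩,
  ⟨qd (-2) 0 0 0 0 0 0 0, qd 1 0 (-1) 2 (-1) 0 (-1) 0, qd 0 0 0 0 0 0 2 0⟩,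
  ⟨qd (-2) 0 0 0 0 0 0 0, qd 1 0 (-1) 2 (-1) 0 (-1) 0, qd 0 0 0 0 0 0 (-2) 0⟩,
  ⟨qd (-2) 0 0 0 0 0 0 0, qd 1 (-1) (-1) 1 (-1) 1 1 (-1), qd 0 (-1) 0 (-1) 0 1 0 (-1)⟩,
  ⟨qd (-2) 0 0 0 0 0 0 0, qd 1 (-1) (-1) 1 (-1) 1 1 (-1), qd 0 1 0 1 0 (-1) 0 1⟩,
  ⟨qd (-2) 0 0 0 0 0 0 0, qd 1 (-1) 1 (-1) 1 (-1) 1 (-1), qd 0 (-1) 0 1 0 1 0 1⟩,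
  ⟨qd (-2) 0 0 0 0 0 0 0, qd 1 (-1) 1 (-1) 1 (-1) 1 (-1), qd 0 1 0 (-1) 0 (-1) 0 (-1)⟩,
  ⟨qd (-2) 0 0 0 0 0 0 0, qd (-1) 1 (-1) 1 (-1) 1 (-1) 1, qd 0 (-1) 0 1 0 1 0 1⟩,
  ⟨qd (-2) 0 0 0 0 0 0 0, qd (-1) 1 (-1) 1 (-1) 1 (-1) 1, qd 0 1 0 (-1) 0 (-1) 0 (-1)⟩,
  ⟨qd (-2) 0 0 0 0 0 0 0, qd (-1) 1 1 (-1) 1 (-1) (-1) 1, qd 0 (-1) 0 (-1) 0 1 0 (-1)⟩,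
  ⟨qd (-2) 0 0 0 0 0 0 0, qd (-1) 1 1 (-1) 1 (-1) (-1) 1, qd 0 1 0 1 0 (-1) 0 1⟩,
  ⟨qd (-2) 0 0 0 0 0 0 0, qd 0 1 0 1 0 1 0 (-1), qd (-1) 1 (-1) 1 1 (-1) 1 (-1)⟩,
  ⟨qd (-2) 0 0 0 0 0 0 0, qd 0 1 0 1 0 1 0 (-1), qd 1 (-1) 1 (-1) (-1) 1 (-1) 1⟩,
  ⟨qd (-2) 0 0 0 0 0 0 0, qd 0 (-1) 0 1 0 (-1) 0 (-1), qd (-1) 1 1 (-1) (-1) 1 1 (-1)⟩,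
  ⟨qd (-2) 0 0 0 0 0 0 0, qd 0 (-1) 0 1 0 (-1) 0 (-1), qd 1 (-1) (-1) 1 1 (-1) (-1) 1⟩,
  ⟨qd (-2) 0 0 0 0 0 0 0, qd 0 1 0 (-1) 0 1 0 1, qd (-1) 1 1 (-1) (-1) 1 1 (-1)⟩,
  ⟨qd (-2) 0 0 0 0 0 0 0, qd 0 1 0 (-1) 0 1 0 1, qd 1 (-1) (-1) 1 1 (-1) (-1) 1⟩,
  ⟨qd (-2) 0 0 0 0 0 0 0, qd 0 (-1) 0 (-1) 0 (-1) 0 1, qd (-1) 1 (-1) 1 1 (-1) 1 (-1)⟩,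
  ⟨qd (-2) 0 0 0 0 0 0 0, qd 0 (-1) 0 (-1) 0 (-1) 0 1, qd 1 (-1) 1 (-1) (-1) 1 (-1) 1⟩,
  ⟨qd (-2) 0 0 0 0 0 0 0, qd (-2) 0 0 0 0 0 0 0, qd (-1) 0 1 0 (-1) 2 (-1) 0⟩,
  ⟨qd (-2) 0 0 0 0 0 0 0, qd (-2) 0 0 0 0 0 0 0, qd 1 0 (-1) 0 1 (-2) 1 0⟩,
  ⟨qd (-2) 0 0 0 0 0 0 0, qd (-2) 0 0 0 0 0 0 0, qd 1 0 1 0 (-1) 0 1 (-2)⟩,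
  ⟨qd (-2) 0 0 0 0 0 0 0, qd (-2) 0 0 0 0 0 0 0, qd (-1) 0 (-1) 2 (-1) 0 1 0⟩,
  ⟨qd (-2) 0 0 0 0 0 0 0, qd (-2) 0 0 0 0 0 0 0, qd (-1) 2 1 0 1 0 1 0⟩,
  ⟨qd (-2) 0 0 0 0 0 0 0, qd (-2) 0 0 0 0 0 0 0, qd 1 (-2) (-1) 0 (-1) 0 (-1) 0⟩,
  ⟨qd (-2) 0 0 0 0 0 0 0, qd (-2) 0 0 0 0 0 0 0, qd 1 0 1 (-2) 1 0 (-1) 0⟩,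
  ⟨qd (-2) 0 0 0 0 0 0 0, qd (-2) 0 0 0 0 0 0 0, qd (-1) 0 (-1) 0 1 0 (-1) 2⟩,
  ⟨qd (-2) 0 0 0 0 0 0 0, qd 0 0 (-2) 0 0 0 0 0, qd (-1) 0 (-1) 0 (-1) 0 1 (-2)⟩,
  ⟨qd (-2) 0 0 0 0 0 0 0, qd 0 0 (-2) 0 0 0 0 0, qd 1 0 1 0 1 0 (-1) 2⟩,
  ⟨qd (-2) 0 0 0 0 0 0 0, qd 0 0 (-2) 0 0 0 0 0, qd (-1) 0 (-1) 2 1 0 (-1) 0⟩,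
  ⟨qd (-2) 0 0 0 0 0 0 0, qd 0 0 (-2) 0 0 0 0 0, qd 1 (-2) (-1) 0 1 0 1 0⟩,
  ⟨qd (-2) 0 0 0 0 0 0 0, qd 0 0 (-2) 0 0 0 0 0, qd 1 0 (-1) 0 (-1) 2 (-1) 0⟩,
  ⟨qd (-2) 0 0 0 0 0 0 0, qd 0 0 (-2) 0 0 0 0 0, qd (-1) 0 1 0 1 (-2) 1 0⟩,
  ⟨qd (-2) 0 0 0 0 0 0 0, qd 0 0 (-2) 0 0 0 0 0, qd (-1) 2 1 0 (-1) 0 (-1) 0⟩,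
  ⟨qd (-2) 0 0 0 0 0 0 0, qd 0 0 (-2) 0 0 0 0 0, qd 1 0 1 (-2) (-1) 0 1 0⟩,
  ⟨qd (-2) 0 0 0 0 0 0 0, qd 0 0 2 0 0 0 0 0, qd (-1) 0 (-1) 0 (-1) 0 1 (-2)⟩,
  ⟨qd (-2) 0 0 0 0 0 0 0, qd 0 0 2 0 0 0 0 0, qd 1 0 1 0 1 0 (-1) 2⟩,
  ⟨qd (-2) 0 0 0 0 0 0 0, qd 0 0 2 0 0 0 0 0, qd (-1) 0 (-1) 2 1 0 (-1) 0⟩,
  ⟨qd (-2) 0 0 0 0 0 0 0, qd 0 0 2 0 0 0 0 0, qd 1 (-2) (-1) 0 1 0 1 0⟩,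
  ⟨qd (-2) 0 0 0 0 0 0 0, qd 0 0 2 0 0 0 0 0, qd 1 0 (-1) 0 (-1) 2 (-1) 0⟩,
  ⟨qd (-2) 0 0 0 0 0 0 0, qd 0 0 2 0 0 0 0 0, qd (-1) 0 1 0 1 (-2) 1 0⟩,
  ⟨qd (-2) 0 0 0 0 0 0 0, qd 0 0 2 0 0 0 0 0, qd (-1) 2 1 0 (-1) 0 (-1) 0⟩,
  ⟨qd (-2) 0 0 0 0 0 0 0, qd 0 0 2 0 0 0 0 0, qd 1 0 1 (-2) (-1) 0 1 0⟩,
  ⟨qd (-2) 0 0 0 0 0 0 0, qd 2 0 0 0 0 0 0 0, qd (-1) 0 1 0 (-1) 2 (-1) 0⟩,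
  ⟨qd (-2) 0 0 0 0 0 0 0, qd 2 0 0 0 0 0 0 0, qd 1 0 (-1) 0 1 (-2) 1 0⟩,
  ⟨qd (-2) 0 0 0 0 0 0 0, qd 2 0 0 0 0 0 0 0, qd 1 0 1 0 (-1) 0 1 (-2)⟩,
  ⟨qd (-2) 0 0 0 0 0 0 0, qd 2 0 0 0 0 0 0 0, qd (-1) 0 (-1) 2 (-1) 0 1 0⟩,
  ⟨qd (-2) 0 0 0 0 0 0 0, qd 2 0 0 0 0 0 0 0, qd (-1) 2 1 0 1 0 1 0⟩,
  ⟨qd (-2) 0 0 0 0 0 0 0, qd 2 0 0 0 0 0 0 0, qd 1 (-2) (-1) 0 (-1) 0 (-1) 0⟩,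
  ⟨qd (-2) 0 0 0 0 0 0 0, qd 2 0 0 0 0 0 0 0, qd 1 0 1 (-2) 1 0 (-1) 0⟩,
  ⟨qd (-2) 0 0 0 0 0 0 0, qd 2 0 0 0 0 0 0 0, qd (-1) 0 (-1) 0 1 0 (-1) 2⟩,
  ⟨qd (-2) 0 0 0 0 0 0 0, qd 1 0 1 0 (-1) 0 1 (-2), qd (-2) 0 0 0 0 0 0 0⟩,
  ⟨qd (-2) 0 0 0 0 0 0 0, qd 1 0 1 0 (-1) 0 1 (-2), qd 2 0 0 0 0 0 0 0⟩,
  ⟨qd (-2) 0 0 0 0 0 0 0, qd (-1) 0 (-1) 2 (-1) 0 1 0, qd (-2) 0 0 0 0 0 0 0⟩,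
  ⟨qd (-2) 0 0 0 0 0 0 0, qd (-1) 0 (-1) 2 (-1) 0 1 0, qd 2 0 0 0 0 0 0 0⟩,
  ⟨qd (-2) 0 0 0 0 0 0 0, qd (-1) 2 1 0 1 0 1 0, qd (-2) 0 0 0 0 0 0 0⟩,
  ⟨qd (-2) 0 0 0 0 0 0 0, qd (-1) 2 1 0 1 0 1 0, qd 2 0 0 0 0 0 0 0⟩,
  ⟨qd (-2) 0 0 0 0 0 0 0, qd (-1) 0 (-1) 2 1 0 (-1) 0, qd 0 0 (-2) 0 0 0 0 0⟩,
  ⟨qd (-2) 0 0 0 0 0 0 0, qd (-1) 0 (-1) 2 1 0 (-1) 0, qd 0 0 2 0 0 0 0 0⟩,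
  ⟨qd (-2) 0 0 0 0 0 0 0, qd 1 (-2) (-1) 0 1 0 1 0, qd 0 0 (-2) 0 0 0 0 0⟩,
  ⟨qd (-2) 0 0 0 0 0 0 0, qd 1 (-2) (-1) 0 1 0 1 0, qd 0 0 2 0 0 0 0 0⟩,
  ⟨qd (-2) 0 0 0 0 0 0 0, qd 1 0 (-1) 0 (-1) 2 (-1) 0, qd 0 0 (-2) 0 0 0 0 0⟩,
  ⟨qd (-2) 0 0 0 0 0 0 0, qd 1 0 (-1) 0 (-1) 2 (-1) 0, qd 0 0 2 0 0 0 0 0⟩,
  ⟨qd (-2) 0 0 0 0 0 0 0, qd (-1) 0 1 0 1 (-2) 1 0, qd 0 0 (-2) 0 0 0 0 0⟩,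
  ⟨qd (-2) 0 0 0 0 0 0 0, qd (-1) 0 1 0 1 (-2) 1 0, qd 0 0 2 0 0 0 0 0⟩,
  ⟨qd (-2) 0 0 0 0 0 0 0, qd (-1) 2 1 0 (-1) 0 (-1) 0, qd 0 0 (-2) 0 0 0 0 0⟩,
  ⟨qd (-2) 0 0 0 0 0 0 0, qd (-1) 2 1 0 (-1) 0 (-1) 0, qd 0 0 2 0 0 0 0 0⟩,
  ⟨qd (-2) 0 0 0 0 0 0 0, qd 1 0 1 (-2) (-1) 0 1 0, qd 0 0 (-2) 0 0 0 0 0⟩,
  ⟨qd (-2) 0 0 0 0 0 0 0, qd 1 0 1 (-2) (-1) 0 1 0, qd 0 0 2 0 0 0 0 0⟩,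
  ⟨qd (-2) 0 0 0 0 0 0 0, qd 1 (-2) (-1) 0 (-1) 0 (-1) 0, qd (-2) 0 0 0 0 0 0 0⟩,
  ⟨qd (-2) 0 0 0 0 0 0 0, qd 1 (-2) (-1) 0 (-1) 0 (-1) 0, qd 2 0 0 0 0 0 0 0⟩,
  ⟨qd (-2) 0 0 0 0 0 0 0, qd 1 0 1 (-2) 1 0 (-1) 0, qd (-2) 0 0 0 0 0 0 0⟩,
  ⟨qd (-2) 0 0 0 0 0 0 0, qd 1 0 1 (-2) 1 0 (-1) 0, qd 2 0 0 0 0 0 0 0⟩,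
  ⟨qd (-2) 0 0 0 0 0 0 0, qd (-1) 0 (-1) 0 1 0 (-1) 2, qd (-2) 0 0 0 0 0 0 0⟩,
  ⟨qd (-2) 0 0 0 0 0 0 0, qd (-1) 0 (-1) 0 1 0 (-1) 2, qd 2 0 0 0 0 0 0 0⟩,
  ⟨qd (-2) 0 0 0 0 0 0 0, qd 0 0 0 0 0 0 2 0, qd 1 0 (-1) 0 1 0 1 (-2)⟩,
  ⟨qd (-2) 0 0 0 0 0 0 0, qd 0 0 0 0 0 0 2 0, qd 1 0 1 0 (-1) 2 1 0⟩,
  ⟨qd (-2) 0 0 0 0 0 0 0, qd 0 0 0 0 0 0 2 0, qd (-1) 2 (-1) 0 (-1) 0 1 0⟩,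
  ⟨qd (-2) 0 0 0 0 0 0 0, qd 0 0 0 0 0 0 2 0, qd 1 (-2) 1 0 1 0 (-1) 0⟩,
  ⟨qd (-2) 0 0 0 0 0 0 0, qd 0 0 0 0 0 0 2 0, qd (-1) 0 (-1) 0 1 (-2) (-1) 0⟩,
  ⟨qd (-2) 0 0 0 0 0 0 0, qd 0 0 0 0 0 0 2 0, qd (-1) 0 1 0 (-1) 0 (-1) 2⟩,
  ⟨qd (-2) 0 0 0 0 0 0 0, qd 0 0 0 0 0 0 2 0, qd (-1) 0 1 (-2) 1 0 1 0⟩,
  ⟨qd (-2) 0 0 0 0 0 0 0, qd 0 0 0 0 0 0 2 0, qd 1 0 (-1) 2 (-1) 0 (-1) 0⟩,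
  ⟨qd (-2) 0 0 0 0 0 0 0, qd 0 0 0 0 2 0 0 0, qd (-1) 0 1 0 1 0 1 (-2)⟩,
  ⟨qd (-2) 0 0 0 0 0 0 0, qd 0 0 0 0 2 0 0 0, qd (-1) 0 (-1) 0 (-1) 2 1 0⟩,
  ⟨qd (-2) 0 0 0 0 0 0 0, qd 0 0 0 0 2 0 0 0, qd 1 0 (-1) 2 1 0 1 0⟩,
  ⟨qd (-2) 0 0 0 0 0 0 0, qd 0 0 0 0 2 0 0 0, qd (-1) 0 1 (-2) (-1) 0 (-1) 0⟩,
  ⟨qd (-2) 0 0 0 0 0 0 0, qd 0 0 0 0 2 0 0 0, qd 1 0 1 0 1 (-2) (-1) 0⟩,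
  ⟨qd (-2) 0 0 0 0 0 0 0, qd 0 0 0 0 2 0 0 0, qd 1 0 (-1) 0 (-1) 0 (-1) 2⟩,
  ⟨qd (-2) 0 0 0 0 0 0 0, qd 0 0 0 0 2 0 0 0, qd (-1) 2 (-1) 0 1 0 (-1) 0⟩,
  ⟨qd (-2) 0 0 0 0 0 0 0, qd 0 0 0 0 2 0 0 0, qd 1 (-2) 1 0 (-1) 0 1 0⟩,
  ⟨qd (-2) 0 0 0 0 0 0 0, qd 0 0 0 0 (-2) 0 0 0, qd (-1) 0 1 0 1 0 1 (-2)⟩,
  ⟨qd (-2) 0 0 0 0 0 0 0, qd 0 0 0 0 (-2) 0 0 0, qd (-1) 0 (-1) 0 (-1) 2 1 0⟩,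
  ⟨qd (-2) 0 0 0 0 0 0 0, qd 0 0 0 0 (-2) 0 0 0, qd 1 0 (-1) 2 1 0 1 0⟩,
  ⟨qd (-2) 0 0 0 0 0 0 0, qd 0 0 0 0 (-2) 0 0 0, qd (-1) 0 1 (-2) (-1) 0 (-1) 0⟩,
  ⟨qd (-2) 0 0 0 0 0 0 0, qd 0 0 0 0 (-2) 0 0 0, qd 1 0 1 0 1 (-2) (-1) 0⟩,
  ⟨qd (-2) 0 0 0 0 0 0 0, qd 0 0 0 0 (-2) 0 0 0, qd 1 0 (-1) 0 (-1) 0 (-1) 2⟩,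
  ⟨qd (-2) 0 0 0 0 0 0 0, qd 0 0 0 0 (-2) 0 0 0, qd (-1) 2 (-1) 0 1 0 (-1) 0⟩,
  ⟨qd (-2) 0 0 0 0 0 0 0, qd 0 0 0 0 (-2) 0 0 0, qd 1 (-2) 1 0 (-1) 0 1 0⟩,
  ⟨qd (-2) 0 0 0 0 0 0 0, qd 0 0 0 0 0 0 (-2) 0, qd 1 0 (-1) 0 1 0 1 (-2)⟩,
  ⟨qd (-2) 0 0 0 0 0 0 0, qd 0 0 0 0 0 0 (-2) 0, qd 1 0 1 0 (-1) 2 1 0⟩,
  ⟨qd (-2) 0 0 0 0 0 0 0, qd 0 0 0 0 0 0 (-2) 0, qd (-1) 2 (-1) 0 (-1) 0 1 0⟩,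
  ⟨qd (-2) 0 0 0 0 0 0 0, qd 0 0 0 0 0 0 (-2) 0, qd 1 (-2) 1 0 1 0 (-1) 0⟩,
  ⟨qd (-2) 0 0 0 0 0 0 0, qd 0 0 0 0 0 0 (-2) 0, qd (-1) 0 (-1) 0 1 (-2) (-1) 0⟩,
  ⟨qd (-2) 0 0 0 0 0 0 0, qd 0 0 0 0 0 0 (-2) 0, qd (-1) 0 1 0 (-1) 0 (-1) 2⟩,
  ⟨qd (-2) 0 0 0 0 0 0 0, qd 0 0 0 0 0 0 (-2) 0, qd (-1) 0 1 (-2) 1 0 1 0⟩,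
  ⟨qd (-2) 0 0 0 0 0 0 0, qd 0 0 0 0 0 0 (-2) 0, qd 1 0 (-1) 2 (-1) 0 (-1) 0⟩
]

/-- The determinant. -/
def invDen : ℤ := 4

/-- Coefficients expressing the coordinates by the orbit vectors. -/
def invCoef : List (List ℤ) := [
  [-1, 0, 0, 0, 0, 0, 0, 0, 0, 0, 0, 0, 0, 0, 0, 0, 0, 0, 0, 0, 0, 0, 0, 0, 0, 0, 0, 0, 0, 0],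
  [0, 0, 1, 1, 0, 0, 0, 0, 0, 0, 0, 0, 0, 0, 0, 0, 0, 0, 0, 0, 0, 0, 0, 0, 0, 0, 0, 0, 0, 0],
  [0, 0, 0, 0, 0, -1, 0, 0, 0, 0, 0, 0, 0, 0, 0, 0, 0, 0, 0, 0, 0, 0, 0, 0, 0, 0, 0, 0, 0, 0],
  [0, 0, 0, 0, 0, 0, 0, 1, 1, 0, 0, 0, 0, 0, 0, 0, 0, 0, 0, 0, 0, 0, 0, 0, 0, 0, 0, 0, 0, 0],
  [0, 0, 1, -1, 0, 1, 0, 1, 1, 0, 0, 0, 0, 0, 0, 0, 0, 0, 0, 0, 0, 0, 0, 0, 0, 0, 0, 0, 0, 0],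
  [1, 2, 1, 1, 0, -1, 0, 0, 0, 0, 0, 0, 0, 0, 0, 0, 0, 0, 0, 0, 0, 0, 0, 0, 0, 0, 0, 0, 0, 0],
  [1, 0, 1, 1, 0, 0, 0, -1, 1, 0, 0, 0, 0, 0, 0, 0, 0, 0, 0, 0, 0, 0, 0, 0, 0, 0, 0, 0, 0, 0],
  [-1, 0, 0, 0, 0, -1, -2, -1, -1, 0, 0, 0, 0, 0, 0, 0, 0, 0, 0, 0, 0, 0, 0, 0, 0, 0, 0, 0, 0, 0],
  [1, 0, 0, 0, 0, 0, 0, 0, 0, 0, 0, 0, 0, 0, 0, -1, -1, 0, 1, 0, 1, 1, 2, 1, 0, 0, 0, 0, 0, 0],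
  [0, 0, -1, -1, 0, 0, 0, 0, 0, 0, 0, 0, 0, 0, 0, -2, -2, 0, 1, 0, 0, 2, 2, 1, 0, 0, 0, 0, 0, 0],
  [0, 0, 0, 0, 0, 1, 0, 0, 0, 0, 0, 0, 0, 0, 0, -1, -1, -2, -1, 0, -1, -1, 0, 1, 0, 0, 0, 0, 0, 0],
  [0, 0, 0, 0, 0, 0, 0, -1, -1, 0, 0, 0, 0, 0, 0, 0, -2, -2, -1, 0, -2, -2, 0, 1, 0, 0, 0, 0, 0, 0],
  [0, 0, -1, 1, 0, -1, 0, -1, -1, 0, 0, 0, 0, 0, 0, 1, 1, 2, 1, 0, 1, 1, 0, 1, 0, 0, 0, 0, 0, 0],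
  [-1, -2, -1, -1, 0, 1, 0, 0, 0, 0, 0, 0, 0, 0, 0, 0, 2, 2, 1, 0, 0, 0, 0, -1, 0, 0, 0, 0, 0, 0],
  [-1, 0, -1, -1, 0, 0, 0, 1, -1, 0, 0, 0, 0, 0, 0, 1, 1, 0, 1, 0, -1, -1, -2, -1, 0, 0, 0, 0, 0, 0],
  [1, 0, 0, 0, 0, 1, 2, 1, 1, 0, 0, 0, 0, 0, 0, 0, 0, 0, -1, 0, 0, -2, -2, -1, 0, 0, 0, 0, 0, 0],
  [0, 0, 2, 1, 0, 0, -2, 0, 1, 0, -2, -2, 0, 0, 0, 1, 1, 0, -1, 0, 1, 1, 0, -1, 0, 0, 2, 0, 0, 0],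
  [-1, 1, 2, 2, 0, -3, -3, -2, 0, 0, -2, -2, 0, 2, 0, 2, 2, 0, -1, 0, 2, 2, 0, -1, 0, 2, 2, 2, 0, 0],
  [1, 0, -2, -1, 0, 1, 2, 0, -1, 0, 2, 2, 0, 0, 0, -1, -1, 0, 1, 0, -1, -1, 0, 1, 0, -2, -2, 0, 0, 0],
  [1, -1, -3, -3, 0, 3, 3, 1, -1, 0, 2, 2, 0, -2, 0, -2, -2, 0, 1, 0, -2, -2, 0, 1, 0, -2, -2, 0, 2, 0],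
  [3, 2, 1, 0, 0, 3, 4, 3, 4, 0, 2, 2, 4, 0, 0, -1, -3, -2, -1, 0, -1, -3, -2, -1, 0, -2, -2, -2, -2, 0],
  [2, 3, 0, -2, 0, 0, 3, 4, 0, 0, 2, 6, 4, 2, 0, -2, -4, -4, -1, 0, -2, -4, -4, -1, 0, 0, -2, -2, 0, 0],
  [2, 4, 3, 2, 0, -2, 2, 1, 2, 0, 2, 2, 4, 4, 0, 1, -1, -2, -1, 0, 1, -1, -2, -1, 0, 0, -2, -2, -2, 0],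
  [2, 5, 5, 1, 0, 0, 1, 5, 3, 0, -2, 2, 4, 2, 0, 0, -2, -4, -3, 0, 0, -2, -4, -3, 0, 0, -2, -4, -2, 0]
]

end KnownA.Co0J2
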