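import Cfsg.Agent.Lib.KnownA.Co0J2.Iso
import Cfsg.Agent.Lib.Janko2.Order
import Cfsg.Agent.Lib.Golay.Co0Shell6

/-!
The double cover of the Hall–Janko group and a scalar of order five inside the automorphism group
of the Leech lattice.
-/

set_option autoImplicit false
set_option maxRecDepth 100000

namespace KnownA.Co0J2

open CfsgLib.Janko2 Cfsg Cfsg.Spor
open CfsgLib.Golay (co0_ext negCo0 negCo0_smul)

/-- Additive and form preserving permutations. -/
def IsIso (f : Equiv.Perm icoLeech) : Prop :=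
  (∀ x y z : icoLeech, (z : Fin 3 → Quaternion ℝ) = (x : Fin 3 → Quaternion ℝ) + y →
    ((f z : icoLeech) : Fin 3 → Quaternion ℝ) = (f x : Fin 3 → Quaternion ℝ) + f y) ∧
  ∀ x y : icoLeech, dotc (code (f x)) (code (f y)) = dotc (code x) (code y)

/-- Transport to the Leech lattice. -/
noncomputable def toCo0 (f : Equiv.Perm icoLeech) (h : IsIso f) : Co0 :=
  ⟨toLeech.permCongr f, fun v w => by
    simp only [Equiv.permCongr_apply]
    refine toLeech_add (h.1 _ _ _ ?_)
    let z : icoLeech := ⟨(toLeech.symm v : Fin 3 → Quaternion ℝ) + toLeech.symm w,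
      icoLeech_add (toLeech.symm v).2 (toLeech.symm w).2⟩
    have e : toLeech z = v + w := by
      rw [toLeech_add (x := toLeech.symm v) (y := toLeech.symm w) rfl, Equiv.apply_symm_apply,
        Equiv.apply_symm_apply]
    rw [← e, Equiv.symm_apply_apply],
  fun v => by
    simp only [Equiv.permCongr_apply]
    rw [← CfsgLib.Golay.dotInt_self, ← CfsgLib.Golay.dotInt_self, toLeech_dot, h.2, ← toLeech_dot,
      Equiv.apply_symm_apply]⟩

theorem toCo0_smul (f : Equiv.Perm icoLeech) (h : IsIso f) (x : icoLeech) :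
    toCo0 f h • toLeech x = toLeech (f x) := by
  show toLeech.permCongr f (toLeech x) = _
  rw [Equiv.permCongr_apply, Equiv.symm_apply_apply]

theorem isIso_twoJ2 {f : Equiv.Perm icoLeech} (hf : f ∈ twoJ2) : IsIso f :=
  ⟨(isLin_mem hf).1, fun x y => dotc_code_eq (by rw [qip_gen hf])⟩

/-- The double cover inside the automorphism group of the Leech lattice. -/
noncomputable def theta : twoJ2 →* Co0 :=
  MonoidHom.mk' (fun f => toCo0 f.1 (isIso_twoJ2 f.2)) fun f g => co0_ext fun v => by
    obtain ⟨x, rfl⟩ := toLeech.surjective v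
    rw [mul_smul, toCo0_smul, toCo0_smul, toCo0_smul]
    rfl

theorem theta_smul (f : twoJ2) (x : icoLeech) :
    theta f • toLeech x = toLeech ((f : Equiv.Perm icoLeech) x) := toCo0_smul _ (isIso_twoJ2 f.2) _

theorem theta_injective : Function.Injective theta := fun f g h => Subtype.ext (Equiv.ext fun x =>
  toLeech.injective (by rw [← theta_smul, ← theta_smul, h]))

theorem check_zeta : zetaQ.isIco = true ∧ zetaQ.conj.mul zetaQ = Quad.one ∧
    zetaQ.mul zetaQ.conj = Quad.one ∧
    zetaQ.mul (zetaQ.mul (zetaQ.mul (zetaQ.mul zetaQ))) = Quad.one ∧ zetaQ ≠ Quad.one := by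
  decide +kernel

theorem zeta_star : star zetaQ.dec * zetaQ.dec = 1 ∧ zetaQ.dec * star zetaQ.dec = 1 := by
  obtain ⟨h, h1, h2, -, -⟩ := check_zeta
  constructor
  · rw [← Quad.dec_conj, ← (Quad.ico_mul (Quad.conj_isIco h) h).1, h1, Quad.dec_one]
  · rw [← Quad.dec_conj, ← (Quad.ico_mul h (Quad.conj_isIco h)).1, h2, Quad.dec_one]

/-- Multiplication by the unit of order five. -/
noncomputable def zetaPerm : Equiv.Perm icoLeech where
  toFun x := ⟨fun t => zetaQ.dec * (x : Fin 3 → Quaternion ℝ) t,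
    CfsgLib.Janko2.icoLeech_smul (Quad.mem_icosians check_zeta.1) x.2⟩
  invFun x := ⟨fun t => star zetaQ.dec * (x : Fin 3 → Quaternion ℝ) t, CfsgLib.Janko2.icoLeech_smul
    (Quad.dec_conj zetaQ ▸ Quad.mem_icosians (Quad.conj_isIco check_zeta.1)) x.2⟩
  left_inv x := Subtype.ext (funext fun t => by
    show star zetaQ.dec * (zetaQ.dec * _) = _
    rw [← mul_assoc, zeta_star.1, one_mul])
  right_inv x := Subtype.ext (funext fun t => by
    show zetaQ.dec * (star zetaQ.dec * _) = _
    rw [← mul_assoc, zeta_star.2, one_mul])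

theorem zetaPerm_apply (x : icoLeech) : ((zetaPerm x : icoLeech) : Fin 3 → Quaternion ℝ) =
    fun t => zetaQ.dec * (x : Fin 3 → Quaternion ℝ) t := rfl

theorem code_zetaPerm (x : icoLeech) : code (zetaPerm x) = (code x).smul zetaQ :=
  code_eq_of_dec (by
    rw [zetaPerm_apply, (Vec.smul_spec check_zeta.1 (inLat_isIco (code_spec x).1)).1, (code_spec x).2])

theorem isIso_zeta : IsIso zetaPerm := by
  refine ⟨fun x y z h => ?_, fun x y => dotc_code_eq ?_⟩
  · funext t
    simp [zetaPerm_apply, h, mul_add]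
  · rw [zetaPerm_apply, zetaPerm_apply, qip_smul_left, qip_smul_right,
      show ∀ a b : Quaternion ℝ, (a * b).re = (b * a).re from fun a b => by
        simp [Quaternion.re_mul]; ring,
      mul_assoc, zeta_star.1, mul_one]

/-- The scalar of order five. -/
noncomputable def aElt : Co0 := toCo0 zetaPerm isIso_zeta

theorem aElt_smul (x : icoLeech) : aElt • toLeech x = toLeech (zetaPerm x) := toCo0_smul _ isIso_zeta _

theorem theta_comm (f : twoJ2) : theta f * aElt = aElt * theta f := co0_ext fun v => by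
  obtain ⟨x, rfl⟩ := toLeech.surjective v
  rw [mul_smul, mul_smul, aElt_smul, theta_smul, theta_smul, aElt_smul]
  exact congrArg toLeech (Subtype.ext ((isLin_mem f.2).2 zetaQ.dec x (zetaPerm x) (zetaPerm_apply x)))

theorem dec_zeta_pow : zetaQ.dec ^ 5 = 1 := by
  obtain ⟨h, -, -, h5, -⟩ := check_zeta
  have e2 := Quad.ico_mul h h
  have e3 := Quad.ico_mul h e2.2
  have e4 := Quad.ico_mul h e3.2
  have e5 := Quad.ico_mul h e4.2
  rw [← Quad.dec_one, ← h5, e5.1, e4.1, e3.1, e2.1]
  simp only [pow_succ', pow_zero, mul_one]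

theorem aElt_pow_smul (n : ℕ) (x : icoLeech) :
    ∃ y : icoLeech, aElt ^ n • toLeech x = toLeech y ∧
      (y : Fin 3 → Quaternion ℝ) = fun t => zetaQ.dec ^ n * (x : Fin 3 → Quaternion ℝ) t := by
  induction n with
  | zero => exact ⟨x, by simp, by simp⟩
  | succ n ih =>
    obtain ⟨y, e, hy⟩ := ih
    refine ⟨zetaPerm y, by rw [pow_succ', mul_smul, e, aElt_smul], ?_⟩
    rw [zetaPerm_apply, hy]
    funext t
    rw [pow_succ', mul_assoc]

theorem orderOf_aElt : orderOf aElt = 5 := by
  haveI : Fact (Nat.Prime 5) := ⟨by norm_num⟩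
  refine orderOf_eq_prime (co0_ext fun v => ?_) fun h => ?_
  · obtain ⟨x, rfl⟩ := toLeech.surjective v
    obtain ⟨y, e, hy⟩ := aElt_pow_smul 5 x
    rw [one_smul, e]
    refine congrArg toLeech (Subtype.ext ?_)
    rw [hy, dec_zeta_pow]
    simp
  · have hv : (latGen 2).inLat = true := all_of check_lat_gens (by norm_num)
    have h' := aElt_smul (decL _ hv)
    rw [h, one_smul] at h'
    have h2 := congrArg code (toLeech.injective h').symm
    rw [code_zetaPerm, code_decL] at h2
    revert h2
    decide +kernel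

theorem theta_neg {m : twoJ2} (hm : ∀ y : icoLeech,
    (((m : Equiv.Perm icoLeech) y : icoLeech) : Fin 3 → Quaternion ℝ) = -(y : Fin 3 → Quaternion ℝ)) :
    theta m = negCo0 := co0_ext fun v => by
  obtain ⟨x, rfl⟩ := toLeech.surjective v
  rw [theta_smul, negCo0_smul]
  exact toLeech_neg (hm x)

end KnownA.Co0J2
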