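import Cfsg.Agent.Lib.Janko2.Centralizer
import Cfsg.Agent.Lib.InvChar.OmegaMinusFourTwo
import Cfsg.Agent.Lib.Comp.Local
import Cfsg.Agent.Lib.Amalgam.PCore
import Cfsg.Agent.Lib.Solvable.PCore

/-!
The Hall–Janko group has an involution centralizer of large extraspecial type.
-/

set_option autoImplicit false
set_option maxRecDepth 100000

namespace KnownA.Co0J2

open CfsgLib.Janko2 Cfsg.Spor MulAction CfsgLib.Fusion.TableSylow

/-- Recognition of the generalized Fitting subgroup. -/
theorem fitting_of_simple {C S : Type*} [Group C] [Group S] [Finite C] [IsSimpleGroup S]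
    (hS : Subgroup.center S = ⊥) (f : C →* S) (hf : Function.Surjective f)
    (hk : IsPGroup 2 f.ker) (c : C) (x : C) (hx : x ∈ f.ker)
    (hw : ∀ q ∈ f.ker, c * x * c⁻¹ ≠ q * x * q⁻¹) :
    Cfsg.generalizedFittingSubgroup C = f.ker := by
  haveI : Fact (Nat.Prime 2) := ⟨Nat.prime_two⟩
  haveI : Finite S := Finite.of_surjective f hf
  have hp : Cfsg.pCore 2 C = f.ker := by
    refine le_antisymm ?_ (CfsgLib.Amalgam.le_pCore (MonoidHom.normal_ker _) hk)
    have h1 : ((Cfsg.pCore 2 C).map f).Normal := (CfsgLib.Solvable.pCore_normal 2 C).map _ hf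
    have h2 := (CfsgLib.Solvable.pCore_isPGroup (G := C) 2).map f
    rcases h1.eq_bot_or_eq_top with h | h
    · exact (Subgroup.map_eq_bot_iff _).1 h
    · exfalso
      rw [h] at h2
      have hp' : IsPGroup 2 S :=
        h2.of_surjective (Subgroup.topEquiv (G := S)).toMonoidHom (MulEquiv.surjective _)
      have := hp'.center_nontrivial
      exact absurd hS ((Subgroup.nontrivial_iff_ne_bot _).1 inferInstance)
  rw [← hp, CfsgLib.Comp.generalizedFitting_eq_pCore_iff 2 C, hp]
  have hn : ((Subgroup.centralizer (f.ker : Set C)).map f).Normal :=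
    (inferInstance : (Subgroup.centralizer (f.ker : Set C)).Normal).map _ hf
  rcases hn.eq_bot_or_eq_top with h | h
  · exact (Subgroup.map_eq_bot_iff _).1 h
  · exfalso
    obtain ⟨n, hn', e⟩ : f c ∈ (Subgroup.centralizer (f.ker : Set C)).map f := by
      rw [h]; exact Subgroup.mem_top _
    have hq : n⁻¹ * c ∈ f.ker := by rw [MonoidHom.mem_ker, map_mul, map_inv, e, inv_mul_cancel]
    have hy := Subgroup.mem_centralizer_iff.1 hn' _ (f.normal_ker.conj_mem x hx (n⁻¹ * c))
    refine hw _ hq ?_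
    calc c * x * c⁻¹ = n * (n⁻¹ * c * x * (n⁻¹ * c)⁻¹) * n⁻¹ := by group
      _ = _ := by rw [← hy, mul_inv_cancel_right]

theorem check_wit_cent : ((List.range 32).all fun j => (List.range 315).any fun x =>
    !Nat.beq (qimg j (pimg (gen1 0) (qimg 2 x))) (qimg 2 (qimg j (pimg (gen1 0) x)))) = true := by
  decide +kernel

theorem check_move : pimg (rep0 3) 0 ≠ 0 ∧
    ∀ x < 315, Nat.beq (pimg (rep0 3) (qimg 1 x)) (qimg 16 (pimg (rep0 3) x)) = true := by
  refine ⟨by decide +kernel, fun x hx => all_of (f := fun x =>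
    Nat.beq (pimg (rep0 3) (qimg 1 x)) (qimg 16 (pimg (rep0 3) x))) ?_ hx⟩
  decide +kernel

theorem q_surj (h : blockHom.ker) : ∃ i : Fin 32, ∀ x : Fin 315,
    ((((h : HH) : PP) : Equiv.Perm (Fin 315)) x : ℕ) = qimg i x := by
  classical
  choose q hq hqv using fun i : Fin 32 => fix_mem i.2
  let Qe : Fin 32 → blockHom.ker := fun i => ⟨q i, hq i⟩
  obtain ⟨b1, b2, eb1, eb2⟩ : ∃ b1 b2 : Fin 315, (b1 : ℕ) = bpt 1 ∧ (b2 : ℕ) = bpt 2 := by
    have h := check_bpt
    simp only [Bool.and_eq_true, Nat.blt_eq] at h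
    exact ⟨⟨_, h.1.2⟩, ⟨_, h.2⟩, rfl, rfl⟩
  have hlt : ∀ i j : Fin 32, (j : ℕ) < i → q i ≠ q j := by
    intro i j hji e
    have := all_of (all_of check_core_distinct i.2) hji
    rw [← eb1, ← eb2, ← hqv i b1, ← hqv j b1, ← hqv i b2, ← hqv j b2, e, Nat.beq_refl,
      Nat.beq_refl] at this
    exact absurd this (by decide)
  have hinj : Function.Injective Qe := by
    intro i j e
    rcases lt_trichotomy (i : ℕ) j with hl | he | hl
    · exact absurd (congrArg Subtype.val e).symm (hlt j i hl)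
    · exact Fin.ext he
    · exact absurd (congrArg Subtype.val e) (hlt i j hl)
  obtain ⟨i, rfl⟩ := ((Fintype.bijective_iff_injective_and_card Qe).2 ⟨hinj, by
    rw [Fintype.card_fin, ← Nat.card_eq_fintype_card (α := blockHom.ker), card_ker_blockHom]⟩).2 h
  exact ⟨i, hqv i⟩

theorem cP_pt0_ne_one : cP pt0 ≠ 1 := by
  haveI := pretransitive
  intro h
  have hall : ∀ k, cP k = 1 := fun k => by
    obtain ⟨σ, rfl⟩ := exists_smul_eq PP pt0 k
    rw [← conj_cP, h, mul_one, mul_inv_cancel]
  exact absurd (cP_injective ((hall 0).trans (hall 1).symm)) (by decide)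

theorem center_alt5 : Subgroup.center (alternatingGroup (Fin 5)) = ⊥ := by
  rcases IsSimpleGroup.eq_bot_or_eq_top_of_normal (Subgroup.center (alternatingGroup (Fin 5)))
    inferInstance with h | h
  · exact h
  · exfalso
    have h2 : ∀ a b : alternatingGroup (Fin 5), a * b = b * a := fun a b =>
      Subgroup.mem_center_iff.1 (h ▸ Subgroup.mem_top b) a
    let a : alternatingGroup (Fin 5) :=
      ⟨Equiv.swap 0 1 * Equiv.swap 1 2, by simp [Equiv.Perm.mem_alternatingGroup]⟩
    let b : alternatingGroup (Fin 5) :=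
      ⟨Equiv.swap 0 1 * Equiv.swap 1 3, by simp [Equiv.Perm.mem_alternatingGroup]⟩
    have e := congrArg (fun c : alternatingGroup (Fin 5) => (c : Equiv.Perm (Fin 5)) 0) (h2 a b)
    simp [a, b, Equiv.swap_apply_def] at e

/-- The reflection in the stabiliser. -/
noncomputable def hZero : HH :=
  ⟨cP pt0, cP_injective (by rw [← conj_cP, mul_inv_cancel_right])⟩

theorem hZero_val : ∀ x : Fin 315, (((hZero : PP) : Equiv.Perm (Fin 315)) x : ℕ) = qimg 1 x := by
  have hc : ∀ h : HH, h * hZero = hZero * h := fun h => by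
    have e := conj_cP (h : PP) pt0
    rw [show (h : PP) • pt0 = pt0 from h.2, mul_inv_eq_iff_eq_mul] at e
    exact Subtype.ext e
  have hk : hZero ∈ blockHom.ker := by
    rw [MonoidHom.mem_ker, ← Subgroup.mem_bot, ← center_alt5, Subgroup.mem_center_iff]
    intro a
    obtain ⟨h, rfl⟩ := blockHom_surjective a
    rw [← map_mul, ← map_mul, hc]
  obtain ⟨i, hi⟩ := q_surj ⟨hZero, hk⟩
  suffices h : (i : ℕ) = 1 by intro x; rw [hi, h]
  have hn := all_of check_core_non i.2
  simp only [Bool.or_eq_true, Bool.and_eq_true, Nat.blt_eq] at hn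
  rcases hn with hn | ⟨hx, hn⟩
  · rcases (show (i : ℕ) = 0 ∨ (i : ℕ) = 1 by omega) with e | e
    · refine absurd (Subtype.ext (Equiv.ext fun x => Fin.ext ?_)) cP_pt0_ne_one
      show (((hZero : PP) : Equiv.Perm (Fin 315)) x : ℕ) = _
      rw [hi, e, beq_eq (all_of check_core_one x.2)]
      rfl
    · exact e
  · exfalso
    obtain ⟨q, -, hqv⟩ := fix_mem (i := fixNon.getD (i : ℕ) 0 % 32) (Nat.mod_lt _ (by norm_num))
    have e := congrArg (fun a : HH => (((a : PP) : Equiv.Perm (Fin 315)) ⟨_, hx⟩ : ℕ)) (hc q)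
    simp only [Subgroup.coe_mul, Equiv.Perm.mul_apply] at e
    rw [hqv, hi, hi, hqv] at e
    simp only at e
    rw [e, Nat.beq_refl] at hn
    exact absurd hn (by decide)

/-- The involution. -/
noncomputable def zJ : J2 := QuotientGroup.mk (rElt pt0)

theorem equivPP_zJ : equivPP zJ = cP pt0 := equivPP_rElt pt0

theorem hZero_coe : (hZero : PP) = cP pt0 := rfl

/-- The centralizer of the involution is the point stabiliser. -/
noncomputable def centEquiv : Subgroup.centralizer ({zJ} : Set J2) ≃* HH where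
  toFun c := ⟨equivPP c.1, cP_injective (by
    have h := congrArg equivPP (Subgroup.mem_centralizer_singleton_iff.1 c.2)
    rw [map_mul, map_mul, equivPP_zJ] at h
    rw [← conj_cP, h, mul_inv_cancel_right])⟩
  invFun h := ⟨equivPP.symm h.1, Subgroup.mem_centralizer_singleton_iff.2 (equivPP.injective (by
    have e := conj_cP h.1 pt0
    rw [show h.1 • pt0 = pt0 from h.2, mul_inv_eq_iff_eq_mul] at e
    rw [map_mul, map_mul, equivPP_zJ, MulEquiv.apply_symm_apply, e]))⟩
  left_inv c := Subtype.ext (equivPP.symm_apply_apply _)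
  right_inv h := Subtype.ext (equivPP.apply_symm_apply _)
  map_mul' a b := Subtype.ext (map_mul equivPP a.1 b.1)

theorem centEquiv_val (c : Subgroup.centralizer ({zJ} : Set J2)) :
    (centEquiv c : PP) = equivPP (c : J2) := rfl

theorem centEquiv_symm_val (h : HH) :
    equivPP ((centEquiv.symm h : Subgroup.centralizer ({zJ} : Set J2)) : J2) = (h : PP) := by
  rw [← centEquiv_val, MulEquiv.apply_symm_apply]

attribute [local irreducible] cP rElt zJ hZero centEquiv equivPP permOf

/-- The map onto the quotient. -/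
noncomputable def coreMap : Subgroup.centralizer ({zJ} : Set J2) →* alternatingGroup (Fin 5) :=
  blockHom.comp centEquiv.toMonoidHom

theorem coreMap_apply (c : Subgroup.centralizer ({zJ} : Set J2)) : coreMap c = blockHom (centEquiv c) := rfl

theorem coreMap_surjective : Function.Surjective coreMap :=
  blockHom_surjective.comp centEquiv.surjective

attribute [local irreducible] coreMap

theorem cent_fitting_of {a i : ℕ} (ha : a < 2) (hi : i < 32)
    (hchk : ((List.range 32).all fun j => (List.range 315).any fun x =>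
      !Nat.beq (qimg j (pimg (gen1 a) (qimg i x))) (qimg i (qimg j (pimg (gen1 a) x)))) = true)
    (hs : Function.Surjective coreMap) (hcard : Nat.card coreMap.ker = 32) :
    Cfsg.generalizedFittingSubgroup (Subgroup.centralizer ({zJ} : Set J2)) = coreMap.ker := by
  haveI : Finite J2 := Nat.finite_of_card_ne_zero (by rw [card_J2]; norm_num)
  obtain ⟨x, hx, hxv⟩ := fix_mem hi
  refine fitting_of_simple center_alt5 coreMap hs (IsPGroup.of_card (n := 5) (by rw [hcard]; norm_num))
    (centEquiv.symm (hG a)) (centEquiv.symm x) ?_ ?_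
  · rw [MonoidHom.mem_ker, coreMap_apply]
    rwa [MulEquiv.apply_symm_apply, ← MonoidHom.mem_ker]
  · intro q hq h
    have h' := congrArg centEquiv h
    simp only [map_mul, map_inv, MulEquiv.apply_symm_apply] at h'
    obtain ⟨j, hj⟩ := q_surj ⟨(centEquiv q)⁻¹, inv_mem (by
      rw [MonoidHom.mem_ker] at hq ⊢
      rwa [coreMap_apply] at hq)⟩
    have e : (centEquiv q)⁻¹ * (hG a * x) = x * ((centEquiv q)⁻¹ * hG a) :=
      calc (centEquiv q)⁻¹ * (hG a * x)
          = (centEquiv q)⁻¹ * (hG a * x * (hG a)⁻¹) * hG a := by group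
        _ = _ := by rw [h']; group
    have hw := all_of hchk j.2
    simp only [List.any_eq_true, List.mem_range] at hw
    obtain ⟨p, hp, hw⟩ := hw
    have e' := congrArg (fun a : HH => (((a : PP) : Equiv.Perm (Fin 315)) ⟨p, hp⟩ : ℕ)) e
    simp only [Subgroup.coe_mul, Equiv.Perm.mul_apply] at e'
    have hg : ∀ y : Fin 315, (((hG a : HH) : PP) : Equiv.Perm (Fin 315)) y =
        pimg (gen1 a) y := fun y => by
      simp only [hG, dif_pos ha]
      exact (gen1_mem ha).1 _
    rw [hj, hg, hxv, hxv, hj, hg] at e'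
    simp only at e'
    rw [e', Nat.beq_refl] at hw
    exact absurd hw (by decide)

theorem exists_move_of {y i : ℕ} (hy : y < 315) (hi : i < 32) (hne : pimg (rep0 y) 0 ≠ 0)
    (hmv : ∀ x < 315, Nat.beq (pimg (rep0 y) (qimg 1 x)) (qimg i (pimg (rep0 y) x)) = true) : ∃ g : J2, (∃ hq : g * zJ * g⁻¹ ∈ Subgroup.centralizer ({zJ} : Set J2),
    (⟨g * zJ * g⁻¹, hq⟩ : Subgroup.centralizer ({zJ} : Set J2)) ∈ coreMap.ker) ∧
      g * zJ * g⁻¹ ≠ zJ := by
  obtain ⟨hgood, hPP⟩ := rep0_mem hy
  obtain ⟨k, hk, hkv⟩ := fix_mem hi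
  let σ : PP := ⟨_, hPP⟩
  have e : σ * cP pt0 * σ⁻¹ = (k : PP) := by
    rw [mul_inv_eq_iff_eq_mul]
    refine Subtype.ext (Equiv.ext fun x => Fin.ext ?_)
    simp only [Subgroup.coe_mul, Equiv.Perm.mul_apply, σ]
    rw [hgood _, hkv, hgood x]
    rw [← hZero_coe, hZero_val, beq_eq (hmv _ x.2)]
  have e2 : equivPP.symm σ * zJ * (equivPP.symm σ)⁻¹ = (centEquiv.symm k : J2) := by
    refine equivPP.injective ?_
    rw [map_mul, map_mul, map_inv, MulEquiv.apply_symm_apply, equivPP_zJ, e]
    exact (centEquiv_symm_val k).symm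
  refine ⟨equivPP.symm σ, ⟨e2 ▸ (centEquiv.symm k).2, ?_⟩, fun h => ?_⟩
  · rw [MonoidHom.mem_ker] at hk ⊢
    have ec : centEquiv.symm k = ⟨equivPP.symm σ * zJ * (equivPP.symm σ)⁻¹, e2 ▸ (centEquiv.symm k).2⟩ :=
      Subtype.ext e2.symm
    rw [← ec]
    rw [coreMap_apply, MulEquiv.apply_symm_apply, hk]
  · have h' := congrArg equivPP h
    rw [map_mul, map_mul, map_inv, MulEquiv.apply_symm_apply, equivPP_zJ, conj_cP] at h'
    have h3 := congrArg Fin.val (cP_injective h')
    simp only [Subgroup.smul_def, Equiv.Perm.smul_def, σ] at h3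
    rw [hgood pt0] at h3
    simp only [pt0] at h3
    exact hne h3

theorem exists_move : ∃ g : J2, (∃ hq : g * zJ * g⁻¹ ∈ Subgroup.centralizer ({zJ} : Set J2),
    (⟨g * zJ * g⁻¹, hq⟩ : Subgroup.centralizer ({zJ} : Set J2)) ∈ coreMap.ker) ∧
      g * zJ * g⁻¹ ≠ zJ :=
  exists_move_of (y := 3) (i := 16) (by norm_num) (by norm_num) check_move.1 check_move.2


/-- The large extraspecial hypothesis of minus type in dimension four. -/
theorem hyp_J2 : IsSimpleGroup J2 ∧ ¬ IsMulCommutative J2 ∧ ∃ z : J2, orderOf z = 2 ∧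
    ∃ (Q : Subgroup (Subgroup.centralizer ({z} : Set J2))) (_ : Q.Normal),
      Cfsg.generalizedFittingSubgroup (Subgroup.centralizer ({z} : Set J2)) = Q ∧
      Cfsg.IsExtraspecial 2 Q ∧ Nat.card Q = 2 ^ 5 ∧
      Nonempty ((Subgroup.centralizer ({z} : Set J2)) ⧸ Q ≃*
        Cfsg.Omega (ZMod 2) (Cfsg.quadFormMinus 1 (ZMod 2) 1 1)) ∧
      ∃ g : J2, (∃ hq : g * z * g⁻¹ ∈ Subgroup.centralizer ({z} : Set J2),
        (⟨g * z * g⁻¹, hq⟩ : Subgroup.centralizer ({z} : Set J2)) ∈ Q) ∧ g * z * g⁻¹ ≠ z := by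
  haveI : Finite J2 := Nat.finite_of_card_ne_zero (by rw [card_J2]; norm_num)
  refine ⟨isSimple_J2, fun h => ?_, zJ, ?_, ?_⟩
  · obtain ⟨a, b, hab⟩ := exists_not_commute_J2
    exact hab (h.is_comm.comm a b)
  · refine orderOf_eq_prime (equivPP.injective ?_) fun h => cP_pt0_ne_one ?_
    · rw [map_pow, map_one, equivPP_zJ, pow_two, cP_sq]
    · rw [← equivPP_zJ, h, map_one]
  have hs := coreMap_surjective
  have hmap : coreMap.ker.map centEquiv.toMonoidHom = blockHom.ker := by
    have e : coreMap.ker = blockHom.ker.comap centEquiv.toMonoidHom := by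
      ext c
      rw [MonoidHom.mem_ker, Subgroup.mem_comap, MonoidHom.mem_ker, coreMap_apply,
        MulEquiv.coe_toMonoidHom]
    rw [e, Subgroup.map_comap_eq_self_of_surjective centEquiv.surjective]
  let eK := (coreMap.ker.equivMapOfInjective centEquiv.toMonoidHom centEquiv.injective).trans
    (MulEquiv.subgroupCongr hmap)
  have hcard : Nat.card coreMap.ker = 32 := by rw [Nat.card_congr eK.toEquiv, card_ker_blockHom]
  refine ⟨coreMap.ker, inferInstance, ?_,
    CfsgLib.Trans3.LargeLinear.isExtraspecial_of_equiv eK.symm extraspecial_ker, hcard.trans (by norm_num),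
    ?_, ?_⟩
  · exact cent_fitting_of (a := 0) (i := 2) (by norm_num) (by norm_num) check_wit_cent hs hcard
  · obtain ⟨o⟩ := CfsgLib.InvChar.OmegaMinus.omega_minus_four_two
    exact ⟨(QuotientGroup.quotientKerEquivOfSurjective coreMap hs).trans o.symm⟩
  · exact exists_move

end KnownA.Co0J2
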