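import Cfsg.Agent.Lib.KnownA.Co0J2.Data
import Cfsg.Agent.Lib.Janko2.Group
import Cfsg.Agent.Lib.Golay.MatrixElement

/-!
An isometry of the icosian Leech lattice with the Leech lattice.
-/

set_option autoImplicit false
set_option maxRecDepth 100000

namespace KnownA.Co0J2

open CfsgLib.Janko2 Cfsg Cfsg.Spor
open CfsgLib.Golay (pt idx idx_pt pt_idx idx_lt latGens leech_le_of_gens inLat_mem sum_pt_list)

/-- `c * x`, not looking at `x` when `c = 0`. -/
def term (x c : ℤ) : ℤ := bif decide (c = 0) then 0 else c * x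

theorem term_eq (x c : ℤ) : term x c = c * x := by
  unfold term
  by_cases h : c = 0
  · simp [h]
  · simp [h]

/-- Dot product of coordinates. -/
def dq (x t : Quad) : ℤ :=
  term x.r.a t.r.a + term x.r.b t.r.b + term x.i.a t.i.a + term x.i.b t.i.b +
    term x.j.a t.j.a + term x.j.b t.j.b + term x.k.a t.k.a + term x.k.b t.k.b

/-- Dot product of coordinates of triples. -/
def dotc (v t : Vec) : ℤ := dq v.x t.x + dq v.y t.y + dq v.z t.z

theorem dotc_comm (v w : Vec) : dotc v w = dotc w v := by
  simp only [dotc, dq, term_eq]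
  ring

/-- Sum of triples. -/
def vadd (v w : Vec) : Vec := ⟨v.x.add w.x, v.y.add w.y, v.z.add w.z⟩

/-- Negative of a triple. -/
def vneg (v : Vec) : Vec := ⟨v.x.neg, v.y.neg, v.z.neg⟩

theorem dec_vadd (v w : Vec) : (vadd v w).dec = v.dec + w.dec := by
  funext i
  fin_cases i <;> simp [vadd, Vec.dec, Quad.dec_add]

theorem dec_vneg (v : Vec) : (vneg v).dec = -v.dec := by
  funext i
  fin_cases i <;> simp [vneg, Vec.dec, Quad.dec_neg]

theorem inLat_vadd {v w : Vec} (hv : v.inLat = true) (hw : w.inLat = true) :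
    (vadd v w).inLat = true :=
  Vec.mem_icoLeech_iff.1 (dec_vadd v w ▸ icoLeech_add (Vec.mem_icoLeech_iff.2 hv) (Vec.mem_icoLeech_iff.2 hw))

theorem inLat_vneg {v : Vec} (hv : v.inLat = true) : (vneg v).inLat = true := by
  refine Vec.mem_icoLeech_iff.1 ?_
  rw [dec_vneg]
  convert icoLeech_smul (neg_mem (one_mem icosians)) (Vec.mem_icoLeech_iff.2 hv) using 1
  funext t
  simp

/-- The image of a triple. -/
def phiV (v : Vec) : GolayPt → ℤ := fun p => (phiList v).getD (idx p) 0

theorem phiV_pt (v : Vec) {i : ℕ} (h : i < 24) : phiV v (pt i) = (phiList v).getD i 0 := by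
  rw [phiV, idx_pt h]

theorem phiV_add (v w : Vec) : phiV (vadd v w) = phiV v + phiV w := by
  funext p
  have h : ∀ i < 24, (phiList (vadd v w)).getD i 0 = (phiList v).getD i 0 + (phiList w).getD i 0 := by
    intro i hi
    interval_cases i <;> simp [phiList, vadd, Quad.add, Zt.add] <;> ring
  exact h _ (idx_lt p)

theorem phiV_neg (v : Vec) : phiV (vneg v) = -phiV v := by
  funext p
  have h : ∀ i < 24, (phiList (vneg v)).getD i 0 = -(phiList v).getD i 0 := by
    intro i hi
    interval_cases i <;> simp [phiList, vneg, Quad.neg, Zt.neg] <;> ring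
  exact h _ (idx_lt p)

theorem psiV_phiList (v : Vec) : psiV (fun i => (phiList v).getD i 0) = v := by
  obtain ⟨⟨⟨a1, b1⟩, ⟨a2, b2⟩, ⟨a3, b3⟩, ⟨a4, b4⟩⟩, ⟨⟨c1, d1⟩, ⟨c2, d2⟩, ⟨c3, d3⟩, ⟨c4, d4⟩⟩,
    ⟨⟨e1, f1⟩, ⟨e2, f2⟩, ⟨e3, f3⟩, ⟨e4, f4⟩⟩⟩ := v
  simp only [psiV, phiList, List.getD_cons_succ, List.getD_cons_zero, Vec.mk.injEq, Quad.mk.injEq,
    Zt.mk.injEq]
  omega

theorem phiV_injective : Function.Injective phiV := by
  intro v w h
  have hp : ∀ i, i < 24 → (phiList v).getD i 0 = (phiList w).getD i 0 := fun i hi => by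
    rw [← phiV_pt v hi, ← phiV_pt w hi, h]
  have e : (fun i => (phiList v).getD i 0) = fun i => (phiList w).getD i 0 := funext fun i => by
    by_cases hi : i < 24
    · exact hp i hi
    · rw [List.getD_eq_default _ _ (by simp [phiList]; omega),
        List.getD_eq_default _ _ (by simp [phiList]; omega)]
  rw [← psiV_phiList v, ← psiV_phiList w, e]

theorem dot_phiV (v w : Vec) : dotInt (phiV v) (phiV w) = 2 * dotc v w := by
  rw [dotInt, ← sum_pt_list fun p => phiV v p * phiV w p,
    List.map_congr_left (g := fun i => (phiList v).getD i 0 * (phiList w).getD i 0) fun i hi => by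
      rw [phiV_pt v (List.mem_range.1 hi), phiV_pt w (List.mem_range.1 hi)]]
  simp only [phiList, List.range_succ, List.range_zero, List.nil_append, List.cons_append,
    List.map_cons, List.map_nil, List.sum_cons, List.sum_nil, List.getD_cons_succ,
    List.getD_cons_zero, dotc, dq, term_eq]
  ring

/-- The generators of the icosian lattice as an abelian group. -/
def icoGens : List Vec := (List.range 3).flatMap fun t => icoBasis.map fun b => (latGen t).smul b

theorem check_forward : (icoGens.all fun g => CfsgLib.Golay.inLat (phiV g)) = true := by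
  decide +kernel

theorem check_backward : (latGens.all fun x => (psiV fun i => x (pt i)).inLat &&
    (List.range 24).all fun i => decide ((phiList (psiV fun i => x (pt i))).getD i 0 = x (pt i))) = true := by
  decide +kernel

/-- Triples sent into the lattice. -/
noncomputable def pullback : AddSubgroup (Fin 3 → Quaternion ℝ) where
  carrier := {f | ∃ v : Vec, v.dec = f ∧ phiV v ∈ leechLattice}
  zero_mem' := by
    refine ⟨⟨Quad.zero, Quad.zero, Quad.zero⟩, ?_, ?_⟩
    · funext i; fin_cases i <;> simp [Vec.dec, Quad.dec_zero]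
    · refine inLat_mem ?_
      decide +kernel
  add_mem' := by
    rintro _ _ ⟨v, rfl, hv⟩ ⟨w, rfl, hw⟩
    exact ⟨vadd v w, dec_vadd v w, phiV_add v w ▸ leechLattice.add_mem hv hw⟩
  neg_mem' := by
    rintro _ ⟨v, rfl, hv⟩
    exact ⟨vneg v, dec_vneg v, phiV_neg v ▸ leechLattice.neg_mem hv⟩

theorem gen_smul_mem {t : ℕ} (ht : t < 3) {a : Quaternion ℝ} (ha : a ∈ icosians) :
    (fun i => a * (latGen t).dec i) ∈ pullback := by
  obtain ⟨p, hp, rfl⟩ := mem_icosians_iff.1 ha
  let m : Quaternion ℝ →+ (Fin 3 → Quaternion ℝ) :=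
    { toFun := fun q i => q * (latGen t).dec i
      map_zero' := by funext i; simp
      map_add' := fun a b => by funext i; simp [add_mul] }
  rw [Quad.eq_combine hp]
  refine combine_group (T := pullback.comap m) _ _ fun b hb => ?_
  have hb' : b.isIco = true := by
    revert hb; revert b; decide +kernel
  have hg : (latGen t).smul b ∈ icoGens :=
    List.mem_flatMap.2 ⟨t, List.mem_range.2 ht, List.mem_map.2 ⟨b, hb, rfl⟩⟩
  exact ⟨_, (Vec.smul_spec hb' (inLat_isIco (all_of check_lat_gens ht))).1,
    inLat_mem (List.all_eq_true.1 check_forward _ hg)⟩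

theorem phiV_mem {v : Vec} (hv : v.inLat = true) : phiV v ∈ leechLattice := by
  obtain ⟨a, b, c, ha, hb, hc, e⟩ := lattice_span (Vec.mem_icoLeech_iff.2 hv)
  obtain ⟨w, hw, hm⟩ : v.dec ∈ pullback := e ▸
    pullback.add_mem (pullback.add_mem (gen_smul_mem (t := 0) (by norm_num) ha)
      (gen_smul_mem (t := 1) (by norm_num) hb)) (gen_smul_mem (t := 2) (by norm_num) hc)
  exact Vec.dec_injective hw ▸ hm

theorem phiV_surj {x : GolayPt → ℤ} (hx : x ∈ leechLattice) : ∃ v : Vec, v.inLat = true ∧ phiV v = x := by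
  let S : AddSubgroup (GolayPt → ℤ) :=
    { carrier := {x | ∃ v : Vec, v.inLat = true ∧ phiV v = x}
      zero_mem' := ⟨⟨Quad.zero, Quad.zero, Quad.zero⟩, by decide +kernel, by
        funext p
        have h : ∀ i < 24, (phiList ⟨Quad.zero, Quad.zero, Quad.zero⟩).getD i 0 = 0 := by decide +kernel
        exact h _ (idx_lt p)⟩
      add_mem' := by
        rintro _ _ ⟨v, hv, rfl⟩ ⟨w, hw, rfl⟩
        exact ⟨vadd v w, inLat_vadd hv hw, phiV_add v w⟩
      neg_mem' := by
        rintro _ ⟨v, hv, rfl⟩
        exact ⟨vneg v, inLat_vneg hv, phiV_neg v⟩ }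
  refine leech_le_of_gens (S := S) (fun y hy => ?_) hx
  have h := List.all_eq_true.1 check_backward y hy
  simp only [Bool.and_eq_true, List.all_eq_true, List.mem_range, decide_eq_true_eq] at h
  refine ⟨_, h.1, funext fun p => ?_⟩
  rw [← pt_idx p, phiV_pt _ (idx_lt p)]
  exact h.2 _ (idx_lt p)

/-- The code of a lattice element. -/
noncomputable def code (x : icoLeech) : Vec := Classical.choose (Vec.exists_code x.2)

theorem code_spec (x : icoLeech) : (code x).inLat = true ∧ (code x).dec = (x : Fin 3 → Quaternion ℝ) :=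
  Classical.choose_spec (Vec.exists_code x.2)

/-- The element with a given code. -/
noncomputable def decL (v : Vec) (h : v.inLat = true) : icoLeech := ⟨v.dec, Vec.mem_icoLeech_iff.2 h⟩

theorem code_decL (v : Vec) (h : v.inLat = true) : code (decL v h) = v :=
  Vec.dec_injective (code_spec _).2

theorem code_injective : Function.Injective code := fun x y h =>
  Subtype.ext (by rw [← (code_spec x).2, h, (code_spec y).2])

theorem code_eq_of_dec {x : icoLeech} {v : Vec} (h : (x : Fin 3 → Quaternion ℝ) = v.dec) : code x = v :=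
  Vec.dec_injective ((code_spec x).2.trans h)

/-- The bijection of the lattices. -/
noncomputable def toLeech : icoLeech ≃ leechLattice :=
  Equiv.ofBijective (fun x => ⟨phiV (code x), phiV_mem (code_spec x).1⟩)
    ⟨fun x y h => code_injective (phiV_injective (congrArg Subtype.val h)), fun y => by
      obtain ⟨v, hv, e⟩ := phiV_surj y.2
      exact ⟨decL v hv, Subtype.ext (by show phiV _ = _; rw [code_decL, e])⟩⟩

theorem toLeech_val (x : icoLeech) : (toLeech x : GolayPt → ℤ) = phiV (code x) := rfl

theorem toLeech_dot (x y : icoLeech) :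
    dotInt (toLeech x : GolayPt → ℤ) (toLeech y : GolayPt → ℤ) = 2 * dotc (code x) (code y) :=
  dot_phiV _ _

theorem toLeech_add {x y z : icoLeech}
    (h : (z : Fin 3 → Quaternion ℝ) = (x : Fin 3 → Quaternion ℝ) + y) :
    toLeech z = toLeech x + toLeech y := by
  refine Subtype.ext ?_
  rw [AddSubgroup.coe_add, toLeech_val, toLeech_val, toLeech_val, ← phiV_add]
  exact congrArg phiV (code_eq_of_dec (by rw [h, dec_vadd, (code_spec x).2, (code_spec y).2]))

theorem toLeech_neg {x z : icoLeech} (h : (z : Fin 3 → Quaternion ℝ) = -(x : Fin 3 → Quaternion ℝ)) :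
    toLeech z = -toLeech x := by
  refine Subtype.ext ?_
  rw [AddSubgroup.coe_neg, toLeech_val, toLeech_val, ← phiV_neg]
  exact congrArg phiV (code_eq_of_dec (by rw [h, dec_vneg, (code_spec x).2]))

theorem raw_eq {p q : Quad} (hp : p.isIco = true) (hq : q.isIco = true) :
    p.raw q = (p.mul q).add (p.mul q) :=
  Quad.dec_injective (by rw [Quad.dec_raw, Quad.dec_add, (Quad.ico_mul hp hq).1, two_smul])

theorem dotc_ip {v w : Vec} (hv : v.isIco = true) (hw : w.isIco = true) :
    dotc v w = 2 * (v.ip w).r.a := by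
  rw [Vec.isIco_iff] at hv hw
  have h : ∀ p q : Quad, p.isIco = true → q.isIco = true → dq p q = 2 * (p.mul q.conj).r.a := by
    intro p q hp hq
    have e := congrArg (fun r : Quad => r.r.a) (raw_eq hp (Quad.conj_isIco hq))
    simp only [Quad.add, Zt.add] at e
    rw [two_mul, ← e]
    simp only [dq, term_eq, Quad.raw, Quad.conj, Zt.mul, Zt.sub, Zt.add, Zt.neg]
    ring
  simp only [dotc, Vec.ip, Quad.add, Zt.add, h _ _ hv.1 hw.1, h _ _ hv.2.1 hw.2.1, h _ _ hv.2.2 hw.2.2]
  ring

/-- The real part of the product determines the dot product. -/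
theorem dotc_code_eq {x y x' y' : icoLeech}
    (h : (qip (x : Fin 3 → Quaternion ℝ) y).re = (qip (x' : Fin 3 → Quaternion ℝ) y').re) :
    dotc (code x) (code y) = dotc (code x') (code y') := by
  have i1 := inLat_isIco (code_spec x).1
  have i2 := inLat_isIco (code_spec y).1
  have i3 := inLat_isIco (code_spec x').1
  have i4 := inLat_isIco (code_spec y').1
  rw [← (code_spec x).2, ← (code_spec y).2, ← (code_spec x').2, ← (code_spec y').2,
    ← (Vec.ip_spec i1 i2).1, ← (Vec.ip_spec i3 i4).1, Quad.re_dec, Quad.re_dec] at h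
  rw [dotc_ip i1 i2, dotc_ip i3 i4, Zt.val_injective
    (show ((code x).ip (code y)).r.val = ((code x').ip (code y')).r.val by linarith)]

end KnownA.Co0J2
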