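import Cfsg.Agent.Lib.KnownA.Co0J2.Iso

/-!
The conditions defining the candidate lists, and their scan.
-/

set_option autoImplicit false
set_option maxRecDepth 100000

namespace KnownA.Co0J2

open CfsgLib.Janko2

/-- The products with the unit multiples of the frame. -/
def vals : List (List ℤ) := [
  [0, 8, -8, 8, -8],
  [8, -4, 0, 4, -8, 4, -8, 8, -8, 4],
  [0, 4, -8, 4, 0, 8, -4, 0, 4, -8, 0, 8, -8, 4, -4],
  [-8, 4, 0, -4, 8, 0, 4, -8, 4, 0, -4, 4, -4, -4, 8],
  [8, 0, -4, 4, -8, 8, -8, 4, -4, 0, 8, -4, 0, 0, -4]
]
/-- The products of a first component agree. -/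
def matchX (x : Quad) : List Vec → List ℤ → Bool
  | t :: ts, c :: cs => bif decide (dq x t.x = c) then matchX x ts cs else false
  | _, _ => true

/-- The products agree. -/
def matchV (v : Vec) : List Vec → List ℤ → Bool
  | t :: ts, c :: cs => bif decide (dotc v t = c) then matchV v ts cs else false
  | _, _ => true

/-- A multiple with the right products is among the candidates. -/
def hit (ts : List Vec) (cs : List ℤ) (L : List Vec) (r : Vec) (u : Quad) : Bool :=
  bif matchX (u.mul r.x) (ts.take 10) cs then
    bif matchV (r.smul u) ts cs then L.any fun c => decide (r.smul u = c) else true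
  else true

/-- The conditions number `j`, the candidates. -/
def scan (j : ℕ) (L : List Vec) (rs : List Vec) : Bool :=
  rs.all fun r => unitTab.all fun u =>
    hit (orbits.take (5 * min (j + 1) 3)) (vals.getD j []) L r u

end KnownA.Co0J2
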